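import Mathlib

namespace Cfsg.Agent.Lib.Helper2

theorem coxA_braid_of_cube {G : Type*} [Group G] {a b : G} (ha : a * a = 1) (hb : b * b = 1)
    (h : (a * b) ^ 3 = 1) : a * b * a = b * a * b := by
  have hai : a⁻¹ = a := inv_eq_of_mul_eq_one_right ha
  have hbi : b⁻¹ = b := inv_eq_of_mul_eq_one_right hb
  have h' : a * b * a * (b * a * b) = 1 := by
    rw [← h, pow_succ, pow_succ, pow_one]
    simp only [mul_assoc]
  have h2 : a * b * a = (b * a * b)⁻¹ := eq_inv_of_mul_eq_one_left h'
  rw [h2, mul_inv_rev, mul_inv_rev, hai, hbi, mul_assoc]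

theorem coxA_comm_of_sq {G : Type*} [Group G] {a b : G} (ha : a * a = 1) (hb : b * b = 1)
    (h : (a * b) ^ 2 = 1) : a * b = b * a := by
  have hai : a⁻¹ = a := inv_eq_of_mul_eq_one_right ha
  have hbi : b⁻¹ = b := inv_eq_of_mul_eq_one_right hb
  have h2 : a * b = (a * b)⁻¹ := eq_inv_of_mul_eq_one_left (by rw [← pow_two]; exact h)
  rw [h2, mul_inv_rev, hai, hbi]

theorem coxA_swap_braid_pow {α : Type*} [DecidableEq α] {a b c : α} (hab : a ≠ b) (hac : a ≠ c)
    (hbc : b ≠ c) : (Equiv.swap a b * Equiv.swap b c) ^ 3 = 1 := by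
  have e1 : Equiv.swap b c * Equiv.swap a b * Equiv.swap b c = Equiv.swap c a :=
    Equiv.swap_mul_swap_mul_swap hab hac
  have e2 : Equiv.swap a b * Equiv.swap b c * Equiv.swap a b = Equiv.swap c a := by
    have h := Equiv.swap_mul_swap_mul_swap (x := c) (y := b) (z := a) hbc.symm hac.symm
    rw [Equiv.swap_comm b a, Equiv.swap_comm c b, Equiv.swap_comm a c] at h
    exact h
  calc (Equiv.swap a b * Equiv.swap b c) ^ 3
      = (Equiv.swap a b * Equiv.swap b c * Equiv.swap a b) *
          (Equiv.swap b c * Equiv.swap a b * Equiv.swap b c) := by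
        rw [pow_succ, pow_succ, pow_one]
        simp only [mul_assoc]
    _ = 1 := by rw [e1, e2, Equiv.swap_mul_self]

theorem coxA_swap_far_pow {α : Type*} [DecidableEq α] {a b c d : α} (hac : a ≠ c) (had : a ≠ d)
    (hbc : b ≠ c) (hbd : b ≠ d) : (Equiv.swap a b * Equiv.swap c d) ^ 2 = 1 := by
  have h := Equiv.swap_apply_apply (Equiv.swap c d) a b
  rw [Equiv.swap_apply_of_ne_of_ne hac had, Equiv.swap_apply_of_ne_of_ne hbc hbd] at h
  have hcomm : Equiv.swap c d * Equiv.swap a b = Equiv.swap a b * Equiv.swap c d :=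
    mul_inv_eq_iff_eq_mul.mp h.symm
  calc (Equiv.swap a b * Equiv.swap c d) ^ 2
      = Equiv.swap a b * (Equiv.swap c d * Equiv.swap a b) * Equiv.swap c d := by
        rw [pow_two]
        simp only [mul_assoc]
    _ = Equiv.swap a b * (Equiv.swap a b * Equiv.swap c d) * Equiv.swap c d := by rw [hcomm]
    _ = (Equiv.swap a b * Equiv.swap a b) * (Equiv.swap c d * Equiv.swap c d) := by
        simp only [mul_assoc]
    _ = 1 := by rw [Equiv.swap_mul_self, Equiv.swap_mul_self, mul_one]

theorem coxA_card_le {G : Type*} [Group G] (s : ℕ → G) (n : ℕ)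
    (h1 : ∀ i, i < n → s i * s i = 1)
    (h2 : ∀ i, i + 1 < n → s i * s (i + 1) * s i = s (i + 1) * s i * s (i + 1))
    (h3 : ∀ i j, i + 2 ≤ j → j < n → s i * s j = s j * s i) :
    Finite (Subgroup.closure (s '' Set.Iio n)) ∧
      Nat.card (Subgroup.closure (s '' Set.Iio n)) ≤ (n + 1).factorial := by
  induction n with
  | zero =>
    have h0 : Subgroup.closure (s '' Set.Iio 0) = ⊥ := by
      rw [Subgroup.closure_eq_bot_iff]
      rintro x ⟨i, hi, rfl⟩
      exact absurd hi (Nat.not_lt_zero i)
    rw [h0]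
    refine ⟨inferInstance, ?_⟩
    rw [Subgroup.card_bot]
    decide
  | succ n ih =>
    obtain ⟨hHfin, hHcard⟩ := ih (fun i hi => h1 i (by omega)) (fun i hi => h2 i (by omega))
      (fun i j hij hj => h3 i j hij (by omega))
    obtain ⟨H, hH⟩ : ∃ H : Subgroup G, H = Subgroup.closure (s '' Set.Iio n) := ⟨_, rfl⟩
    rw [← hH] at hHfin hHcard
    have hsH : ∀ i, i < n → s i ∈ H := fun i hi => by
      rw [hH]
      exact Subgroup.subset_closure ⟨i, hi, rfl⟩
    obtain ⟨c, hc0, hcs⟩ : ∃ c : ℕ → G, c 0 = 1 ∧ ∀ k, c (k + 1) = c k * s (n - k) :=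
      ⟨fun k => Nat.rec 1 (fun k ck => ck * s (n - k)) k, rfl, fun k => rfl⟩
    have hA : ∀ k j, j + k + 1 ≤ n → c k * s j = s j * c k := by
      intro k
      induction k with
      | zero =>
        intro j _
        rw [hc0, one_mul, mul_one]
      | succ k ihk =>
        intro j hj
        rw [hcs, mul_assoc, ← h3 j (n - k) (by omega) (by omega), ← mul_assoc,
          ihk j (by omega), mul_assoc]
    have hB : ∀ k j, n + 2 ≤ j + k → j ≤ n → k ≤ n + 1 → c k * s j = s (j - 1) * c k := by
      intro k
      induction k with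
      | zero =>
        intro j hjk hj _
        omega
      | succ k ihk =>
        intro j hjk hj hk
        rcases Nat.eq_or_lt_of_le hjk with heq | hgt
        · -- j + k = n + 1
          cases k with
          | zero => omega
          | succ k' =>
            have e1 : n - k' = j := by omega
            have e2 : n - (k' + 1) = j - 1 := by omega
            have hbr : s (j - 1) * s j * s (j - 1) = s j * s (j - 1) * s j := by
              have h := h2 (j - 1) (by omega)
              rwa [show j - 1 + 1 = j by omega] at h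
            have hcm : c k' * s (j - 1) = s (j - 1) * c k' := hA k' (j - 1) (by omega)
            have hck : c (k' + 1 + 1) = c k' * s j * s (j - 1) := by
              rw [hcs, hcs, e1, e2]
            calc c (k' + 1 + 1) * s j = c k' * (s j * s (j - 1) * s j) := by
                  rw [hck]
                  simp only [mul_assoc]
              _ = c k' * (s (j - 1) * s j * s (j - 1)) := by rw [hbr]
              _ = c k' * s (j - 1) * (s j * s (j - 1)) := by simp only [mul_assoc]
              _ = s (j - 1) * c k' * (s j * s (j - 1)) := by rw [hcm]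
              _ = s (j - 1) * c (k' + 1 + 1) := by
                  rw [hck]
                  simp only [mul_assoc]
        · rw [hcs, mul_assoc, h3 (n - k) j (by omega) (by omega), ← mul_assoc,
            ihk j (by omega) hj (by omega), mul_assoc]
    obtain ⟨T, hT⟩ : ∃ T : G → Prop, ∀ g, T g ↔ ∃ h ∈ H, ∃ k, k ≤ n + 1 ∧ g = h * c k :=
      ⟨fun g => ∃ h ∈ H, ∃ k, k ≤ n + 1 ∧ g = h * c k, fun g => Iff.rfl⟩
    have hstep : ∀ j, j ≤ n → ∀ g, T g → T (g * s j) := by
      intro j hj g hg
      rw [hT] at hg ⊢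
      obtain ⟨h, hh, k, hk, rfl⟩ := hg
      rcases Nat.lt_or_ge (j + k) n with hlt | hge
      · exact ⟨h * s j, H.mul_mem hh (hsH j (by omega)), k, hk, by
          rw [mul_assoc, hA k j (by omega), mul_assoc]⟩
      · rcases Nat.eq_or_lt_of_le hge with heq | hgt
        · exact ⟨h, hh, k + 1, by omega, by
            rw [mul_assoc, hcs, show n - k = j by omega]⟩
        · rcases Nat.eq_or_lt_of_le (Nat.succ_le_of_lt hgt) with heq | hgt2
          · obtain ⟨k', rfl⟩ : ∃ k', k = k' + 1 := ⟨k - 1, by omega⟩
            refine ⟨h, hh, k', by omega, ?_⟩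
            rw [hcs, show n - k' = j by omega, mul_assoc, mul_assoc, h1 j (by omega), mul_one]
          · exact ⟨h * s (j - 1), H.mul_mem hh (hsH (j - 1) (by omega)), k, hk, by
              rw [mul_assoc, hB k j (by omega) hj hk, mul_assoc]⟩
    have hT1 : T 1 := by
      rw [hT]
      exact ⟨1, H.one_mem, 0, by omega, by rw [hc0, mul_one]⟩
    obtain ⟨K, hK⟩ : ∃ K : Subgroup G, K = Subgroup.closure (s '' Set.Iio (n + 1)) := ⟨_, rfl⟩
    rw [← hK]
    have hall : ∀ w ∈ Subgroup.closure (s '' Set.Iio (n + 1)), ∀ g, T g → T (g * w) := by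
      intro w hw
      induction hw using Subgroup.closure_induction'' with
      | mem a ha =>
        obtain ⟨j, hj, rfl⟩ := ha
        exact hstep j (Nat.lt_succ_iff.mp hj)
      | inv_mem a ha =>
        obtain ⟨j, hj, rfl⟩ := ha
        have hinv : (s j)⁻¹ = s j := inv_eq_of_mul_eq_one_right (h1 j hj)
        rw [hinv]
        exact hstep j (Nat.lt_succ_iff.mp hj)
      | one =>
        intro g hg
        rwa [mul_one]
      | mul a b _ _ iha ihb =>
        intro g hg
        rw [← mul_assoc]
        exact ihb _ (iha _ hg)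
    have hTall : ∀ w ∈ K, T w := by
      intro w hw
      rw [hK] at hw
      have h := hall w hw 1 hT1
      rwa [one_mul] at h
    have hex : ∀ w : K, ∃ p : H × Fin (n + 2), (w : G) = (p.1 : G) * c p.2.val := by
      intro w
      obtain ⟨h, hh, k, hk, hw⟩ := (hT _).mp (hTall w.1 w.2)
      exact ⟨(⟨h, hh⟩, ⟨k, by omega⟩), hw⟩
    choose f hf using hex
    have hinj : Function.Injective f := by
      intro a b hab
      apply Subtype.ext
      rw [hf a, hf b, hab]
    have hKfin : Finite K := Finite.of_injective f hinj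
    refine ⟨hKfin, ?_⟩
    have hle : Nat.card K ≤ Nat.card (H × Fin (n + 2)) := Nat.card_le_card_of_injective f hinj
    have hfin2 : Nat.card (Fin (n + 2)) = n + 2 := by
      rw [Nat.card_eq_fintype_card, Fintype.card_fin]
    rw [Nat.card_prod, hfin2] at hle
    calc Nat.card K ≤ Nat.card H * (n + 2) := hle
      _ ≤ (n + 1).factorial * (n + 2) := Nat.mul_le_mul_right _ hHcard
      _ = (n + 1 + 1).factorial := by
          rw [Nat.factorial_succ (n + 1)]
          ring

end Cfsg.Agent.Lib.Helper2
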