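import Cfsg.Agent.Lib.Helper2.CoxEnum

set_option autoImplicit false

namespace Cfsg.Agent.Lib.Helper2

def ctD4T : List (List (List ℕ)) :=
  [[[1,2,3,4],[0,5,6,7],[8,0,9,10],[6,11,0,12],[7,13,12,0],[14,1,15,16],[3,17,1,18],[4,19,18,1],[2,14,20,21],[20,22,2,23],[21,24,23,2],[25,3,22,26],[18,27,4,3],[28,4,29,24],[5,8,30,31],[30,32,5,33],[31,34,33,5],[35,6,32,36],[12,37,7,6],[38,7,39,34],[9,40,8,41],[10,42,41,8],[43,9,11,44],[41,45,10,9],[46,10,47,13],[11,35,43,48],[48,49,44,11],[50,12,51,49],[13,38,52,46],[52,51,13,47],[15,53,14,54],[16,55,54,14]],[[56,15,17,57],[54,58,16,15],[59,16,60,19],[17,25,56,61],[61,62,57,17],[63,18,64,62],[19,28,65,59],[65,64,19,60],[66,20,53,67],[23,68,21,20],[69,21,70,55],[22,66,25,71],[71,72,26,22],[73,23,74,72],[24,69,75,28],[75,74,24,29]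,[26,76,71,25],[77,26,78,27],[27,63,79,77],[79,29,27,78],[29,80,28,75],[81,30,40,82],[33,83,31,30],[84,31,85,42],[32,81,35,86],[86,87,36,32],[88,33,89,87],[34,84,90,38],[90,89,34,39],[36,91,86,35],[92,36,93,37],[37,50,94,92]],[[94,39,37,93],[39,95,38,90],[40,43,81,96],[96,97,82,40],[98,41,99,97],[42,46,100,84],[100,99,42,85],[44,101,48,43],[102,44,103,45],[45,98,104,102],[104,47,45,103],[47,105,46,52],[106,48,107,91],[49,106,108,50],[108,103,49,51],[51,109,50,108],[109,52,95,110],[53,56,66,111],[111,112,67,53],[113,54,114,112],[55,59,115,69],[115,114,55,70],[57,116,61,56],[117,57,118,58],[58,113,119,117],[119,60,58,118],[60,120,59,65],[121,61,122,76],[62,121,123,63],[123,118,62,64],[64,124,63,123],[124,65,80,125]],[[67,126,111,66],[127,67,128,68],[68,73,129,127],[129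,70,68,128],[70,130,69,115],[131,71,132,126],[72,131,133,73],[133,78,72,74],[74,134,73,133],[134,75,130,135],[76,77,136,121],[136,132,76,122],[78,137,77,79],[80,79,124,138],[138,135,125,80],[82,139,96,81],[140,82,141,83],[83,88,142,140],[142,85,83,141],[85,143,84,100],[144,86,145,139],[87,144,146,88],[146,93,87,89],[89,147,88,146],[147,90,143,148],[91,92,149,106],[149,145,91,107],[93,150,92,94],[95,94,109,151],[151,148,110,95],[152,96,153,101],[97,152,154,98]],[[154,141,97,99],[99,155,98,154],[155,100,105,156],[101,102,157,152],[157,107,101,153],[103,158,102,104],[105,104,155,159],[159,110,156,105],[107,160,106,149],[158,108,160,161],[110,161,151,109],[162,111,163,116],[112,162,164,113],[164,128,112,114],[114,165,113,164],[165,115,120,166],[116,117,167,162],[167,122,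116,163],[118,168,117,119],[120,119,165,169],[169,125,166,120],[122,170,121,136],[168,123,170,171],[125,171,138,124],[126,127,172,131],[172,163,126,132],[128,173,127,129],[130,129,134,174],[174,166,135,130],[132,175,131,172],[137,133,175,176],[135,176,174,134]],[[175,136,137,177],[176,138,177,137],[139,140,178,144],[178,153,139,145],[141,179,140,142],[143,142,147,180],[180,156,148,143],[145,181,144,178],[150,146,181,182],[148,182,180,147],[181,149,150,183],[182,151,183,150],[153,184,152,157],[179,154,184,185],[156,185,159,155],[160,157,158,186],[161,159,186,158],[186,183,161,160],[163,187,162,167],[173,164,187,188],[166,188,169,165],[170,167,168,189],[171,169,189,168],[189,177,171,170],[187,172,173,190],[188,174,190,173],[177,190,176,175],[184,178,179,191],[185,180,191,179],[183,191,182,181],[191,186,185,184],[190,189,188,187]]]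

def ctD4S : List (List (List ℕ)) :=
  [[[0,0,0,0],[1,0,0,0],[0,1,0,0],[5,0,1,0],[5,0,5,1],[0,1,0,0],[4,0,1,0],[4,0,7,1],[1,7,0,0],[7,0,1,0],[7,0,7,1],[0,1,7,0],[7,0,4,1],[0,1,0,7],[1,6,0,0],[9,0,1,0],[9,0,9,1],[0,1,9,0],[6,0,6,1],[0,1,0,9],[6,0,1,0],[6,0,9,1],[0,1,6,0],[9,0,6,1],[0,1,0,6],[1,9,9,0],[9,0,9,1],[0,1,0,9],[1,9,0,9],[9,9,1,9],[8,0,1,0],[8,0,11,1]],[[0,1,8,0],[11,0,8,1],[0,1,0,8],[1,8,11,0],[11,0,11,1],[0,1,0,11],[1,8,0,11],[11,11,1,11],[0,1,11,0],[8,0,8,1],[0,1,0,11],[1,11,8,0],[11,0,8,1],[0,1,0,11],[1,11,0,8],[11,11,1,8],[8,0,11,1],[0,1,0,8],[1,11,0,11],[11,8,1,11],[8,0,1,11],[0,1,10,0],[10,0,10,1],[0,1,0,10],[1,13,10,0],[13,0,10,1],[0,1,0,13],[1,13,0,10],[13,13,1,10],[10,0,13,1],[0,1,0,10],[1,10,0,13]],[[13,10,1,13],[10,0,1,13],[1,10,13,0],[13,0,13,1]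,[0,1,0,13],[1,10,0,13],[13,13,1,13],[10,0,10,1],[0,1,0,10],[1,13,0,13],[13,10,1,13],[10,0,1,10],[0,1,0,13],[1,13,0,10],[13,13,1,10],[10,0,1,13],[13,1,13,0],[1,12,12,0],[15,0,12,1],[0,1,0,15],[1,12,0,12],[15,15,1,12],[12,0,12,1],[0,1,0,12],[1,15,0,15],[15,12,1,15],[12,0,1,12],[0,1,0,12],[1,15,0,12],[15,15,1,12],[12,0,1,15],[15,1,12,0]],[[12,0,15,1],[0,1,0,12],[1,12,0,15],[15,12,1,15],[12,0,1,15],[0,1,0,15],[1,15,0,12],[15,12,1,12],[12,0,1,15],[15,1,15,0],[1,12,0,15],[15,15,1,15],[12,0,1,12],[12,1,15,0],[15,15,15,1],[14,0,14,1],[0,1,0,14],[1,14,0,17],[17,14,1,17],[14,0,1,14],[0,1,0,17],[1,17,0,14],[17,14,1,14],[14,0,1,17],[17,1,17,0],[1,14,0,14],[17,17,1,14],[14,0,1,14],[14,1,14,0],[17,17,14,1],[0,1,0,14],[1,17,0,14]],[[17,17,1,14],[14,0,1,17],[17,1,14,0],[1,14,0,17],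[17,14,1,17],[14,0,1,14],[14,1,17,0],[17,14,17,1],[14,0,1,17],[17,1,17,0],[14,17,17,1],[0,1,0,16],[1,19,0,16],[19,16,1,16],[16,0,1,19],[19,1,16,0],[1,16,0,19],[19,16,1,19],[16,0,1,16],[16,1,19,0],[19,16,19,1],[16,0,1,16],[19,1,19,0],[16,19,16,1],[1,16,0,16],[19,19,1,16],[16,0,1,16],[16,1,16,0],[19,19,16,1],[16,0,1,19],[16,1,19,0],[16,19,19,1]],[[19,1,16,0],[19,16,19,1],[1,18,0,18],[21,18,1,18],[18,0,1,18],[18,1,18,0],[21,18,18,1],[18,0,1,21],[18,1,21,0],[18,21,21,1],[21,1,18,0],[21,18,21,1],[18,0,1,18],[21,1,21,0],[18,21,18,1],[18,1,18,0],[18,18,21,1],[21,21,18,1],[20,0,1,20],[20,1,23,0],[20,23,20,1],[20,1,20,0],[20,20,23,1],[23,20,20,1],[23,1,20,0],[23,20,23,1],[20,23,20,1],[22,1,22,0],[22,22,25,1],[22,25,22,1],[25,22,22,1],[24,24,24,1]]]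

def ctD4P : List (List (List ℕ)) :=
  [[[0,0,0,0],[0,0,0,0],[0,1,0,0],[0,0,2,0],[0,0,2,3],[0,1,0,0],[2,0,2,0],[3,0,2,3],[0,1,0,0],[0,0,2,0],[0,0,2,3],[0,1,2,0],[0,0,3,3],[0,1,0,3],[0,0,0,0],[0,0,2,0],[0,0,2,3],[0,1,2,0],[3,0,3,3],[0,1,0,3],[2,0,2,0],[3,0,2,3],[0,1,1,0],[0,0,3,3],[0,1,0,1],[0,1,2,0],[0,0,2,3],[0,1,0,3],[0,1,0,3],[0,1,2,3],[2,0,2,0],[3,0,2,3]],[[0,1,1,0],[0,0,3,3],[0,1,0,1],[0,0,2,0],[0,0,2,3],[0,1,0,3],[0,0,0,3],[0,1,2,3],[0,1,2,0],[3,0,3,3],[0,1,0,3],[0,1,0,0],[0,0,3,3],[0,1,0,3],[0,1,0,0],[0,1,2,2],[3,0,2,3],[0,1,0,1],[0,1,0,3],[0,2,2,3],[2,0,2,3],[0,1,1,0],[3,0,3,3],[0,1,0,1],[0,1,0,0],[0,0,3,3],[0,1,0,3],[0,1,0,0],[0,1,2,2],[3,0,2,3],[0,1,0,1],[0,0,0,3]],[[0,2,2,3],[2,0,2,3],[0,0,2,0],[0,0,2,3],[0,1,0,3],[0,0,0,3],[0,1,2,3],[3,0,3,3],[0,1,0,1],[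0,1,0,3],[0,2,2,3],[2,0,2,2],[0,1,0,3],[0,1,0,0],[0,1,2,2],[2,0,2,3],[0,1,2,0],[0,0,0,0],[0,0,3,3],[0,1,0,3],[0,0,0,0],[0,1,2,2],[3,0,3,3],[0,1,0,1],[0,1,0,3],[0,2,2,3],[2,0,2,2],[0,1,0,1],[0,1,0,0],[0,1,2,2],[2,0,2,3],[0,1,1,0]],[[3,0,2,3],[0,1,0,1],[0,0,0,3],[0,2,2,3],[2,0,2,3],[0,1,0,3],[0,1,0,0],[0,2,2,2],[2,0,2,3],[0,1,2,0],[0,0,0,3],[0,1,2,3],[2,0,2,2],[1,1,2,0],[0,1,2,3],[3,0,3,3],[0,1,0,1],[0,0,0,3],[0,2,2,3],[2,0,2,2],[0,1,0,3],[0,1,0,0],[0,2,2,2],[2,0,2,3],[0,1,2,0],[0,0,0,0],[0,1,2,2],[2,0,2,2],[1,1,1,0],[0,1,3,3],[0,1,0,1],[0,1,0,0]],[[0,1,2,2],[2,0,2,3],[0,1,1,0],[0,0,0,3],[0,2,2,3],[2,0,2,2],[1,1,2,0],[0,3,2,3],[2,0,2,3],[0,1,2,0],[3,1,2,3],[0,1,0,1],[0,1,0,0],[0,2,2,2],[2,0,2,3],[0,1,1,0],[0,0,0,3],[0,2,2,3],[2,0,2,2],[1,1,2,0],[0,3,2,3],[2,0,2,2],[0,1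,2,0],[3,1,3,3],[0,0,0,0],[0,1,2,2],[2,0,2,2],[1,1,1,0],[0,1,3,3],[2,0,2,3],[1,1,2,0],[3,1,2,3]],[[0,1,1,0],[0,3,2,3],[0,0,0,0],[0,2,2,2],[2,0,2,2],[1,1,1,0],[0,3,3,3],[2,0,2,3],[1,1,2,0],[3,1,2,3],[0,1,1,0],[0,3,2,3],[2,0,2,2],[0,1,2,0],[3,1,3,3],[1,1,1,0],[3,3,2,3],[0,1,3,3],[2,0,2,2],[1,1,2,0],[3,1,3,3],[1,1,1,0],[3,3,2,3],[0,3,3,3],[0,1,1,0],[0,3,2,3],[3,1,3,3],[1,1,1,0],[3,3,2,3],[3,1,3,3],[0,3,3,3],[3,3,3,3]]]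

def ctD4W : List (List (List ℕ)) :=
  [[[],[0],[1],[2],[3],[0,1],[0,2],[0,3],[1,0],[1,2],[1,3],[2,1],[2,3],[3,1],[0,1,0],[0,1,2],[0,1,3],[0,2,1],[0,2,3],[0,3,1],[1,0,2],[1,0,3],[1,2,1],[1,2,3],[1,3,1],[2,1,0],[2,1,3],[2,3,1],[3,1,0],[3,1,2],[0,1,0,2],[0,1,0,3]],[[0,1,2,1],[0,1,2,3],[0,1,3,1],[0,2,1,0],[0,2,1,3],[0,2,3,1],[0,3,1,0],[0,3,1,2],[1,0,2,1],[1,0,2,3],[1,0,3,1],[1,2,1,0],[1,2,1,3],[1,2,3,1],[1,3,1,0],[1,3,1,2],[2,1,0,3],[2,1,3,1],[2,3,1,0],[2,3,1,2],[3,1,0,2],[0,1,0,2,1],[0,1,0,2,3],[0,1,0,3,1],[0,1,2,1,0],[0,1,2,1,3],[0,1,2,3,1],[0,1,3,1,0],[0,1,3,1,2],[0,2,1,0,3],[0,2,1,3,1],[0,2,3,1,0]],[[0,2,3,1,2],[0,3,1,0,2],[1,0,2,1,0],[1,0,2,1,3],[1,0,2,3,1],[1,0,3,1,0],[1,0,3,1,2],[1,2,1,0,3],[1,2,1,3,1],[1,2,3,1,0],[1,2,3,1,2],[1,3,1,0,2],[2,1,0,3,1],[2,1,3,1,0],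[2,1,3,1,2],[2,3,1,0,2],[3,1,0,2,1],[0,1,0,2,1,0],[0,1,0,2,1,3],[0,1,0,2,3,1],[0,1,0,3,1,0],[0,1,0,3,1,2],[0,1,2,1,0,3],[0,1,2,1,3,1],[0,1,2,3,1,0],[0,1,2,3,1,2],[0,1,3,1,0,2],[0,2,1,0,3,1],[0,2,1,3,1,0],[0,2,1,3,1,2],[0,2,3,1,0,2],[0,3,1,0,2,1]],[[1,0,2,1,0,3],[1,0,2,1,3,1],[1,0,2,3,1,0],[1,0,2,3,1,2],[1,0,3,1,0,2],[1,2,1,0,3,1],[1,2,1,3,1,0],[1,2,1,3,1,2],[1,2,3,1,0,2],[1,3,1,0,2,1],[2,1,0,3,1,0],[2,1,0,3,1,2],[2,1,3,1,0,2],[2,3,1,0,2,1],[3,1,0,2,1,3],[0,1,0,2,1,0,3],[0,1,0,2,1,3,1],[0,1,0,2,3,1,0],[0,1,0,2,3,1,2],[0,1,0,3,1,0,2],[0,1,2,1,0,3,1],[0,1,2,1,3,1,0],[0,1,2,1,3,1,2],[0,1,2,3,1,0,2],[0,1,3,1,0,2,1],[0,2,1,0,3,1,0],[0,2,1,0,3,1,2],[0,2,1,3,1,0,2],[0,2,3,1,0,2,1],[0,3,1,0,2,1,3],[1,0,2,1,0,3,1],[1,0,2,1,3,1,0]],[[1,0,2,1,3,1,2],[1,0,2,3,1,0,2],[1,0,3,1,0,2,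1],[1,2,1,0,3,1,0],[1,2,1,0,3,1,2],[1,2,1,3,1,0,2],[1,2,3,1,0,2,1],[1,3,1,0,2,1,3],[2,1,0,3,1,0,2],[2,1,3,1,0,2,1],[2,3,1,0,2,1,3],[0,1,0,2,1,0,3,1],[0,1,0,2,1,3,1,0],[0,1,0,2,1,3,1,2],[0,1,0,2,3,1,0,2],[0,1,0,3,1,0,2,1],[0,1,2,1,0,3,1,0],[0,1,2,1,0,3,1,2],[0,1,2,1,3,1,0,2],[0,1,2,3,1,0,2,1],[0,1,3,1,0,2,1,3],[0,2,1,0,3,1,0,2],[0,2,1,3,1,0,2,1],[0,2,3,1,0,2,1,3],[1,0,2,1,0,3,1,0],[1,0,2,1,0,3,1,2],[1,0,2,1,3,1,0,2],[1,0,2,3,1,0,2,1],[1,0,3,1,0,2,1,3],[1,2,1,0,3,1,0,2],[1,2,1,3,1,0,2,1],[1,2,3,1,0,2,1,3]],[[2,1,0,3,1,0,2,1],[2,1,3,1,0,2,1,3],[0,1,0,2,1,0,3,1,0],[0,1,0,2,1,0,3,1,2],[0,1,0,2,1,3,1,0,2],[0,1,0,2,3,1,0,2,1],[0,1,0,3,1,0,2,1,3],[0,1,2,1,0,3,1,0,2],[0,1,2,1,3,1,0,2,1],[0,1,2,3,1,0,2,1,3],[0,2,1,0,3,1,0,2,1],[0,2,1,3,1,0,2,1,3],[1,0,2,1,0,3,1,0,2],[1,0,2,1,3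,1,0,2,1],[1,0,2,3,1,0,2,1,3],[1,2,1,0,3,1,0,2,1],[1,2,1,3,1,0,2,1,3],[2,1,0,3,1,0,2,1,3],[0,1,0,2,1,0,3,1,0,2],[0,1,0,2,1,3,1,0,2,1],[0,1,0,2,3,1,0,2,1,3],[0,1,2,1,0,3,1,0,2,1],[0,1,2,1,3,1,0,2,1,3],[0,2,1,0,3,1,0,2,1,3],[1,0,2,1,0,3,1,0,2,1],[1,0,2,1,3,1,0,2,1,3],[1,2,1,0,3,1,0,2,1,3],[0,1,0,2,1,0,3,1,0,2,1],[0,1,0,2,1,3,1,0,2,1,3],[0,1,2,1,0,3,1,0,2,1,3],[1,0,2,1,0,3,1,0,2,1,3],[0,1,0,2,1,0,3,1,0,2,1,3]]]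

def ctD4M : List (List (List ℕ)) :=
  [[[1,3,2,2],[3,1,3,3],[2,3,1,2],[2,3,2,1]]]

set_option maxRecDepth 100000 in
theorem ct_d4_all : ceAll 4 192 (ceLk3 ctD4T) (ceLk3 ctD4S) (ceLk3 ctD4P) (ceLkW ctD4W) (ceLk3 ctD4M) := by
  decide +kernel

end Cfsg.Agent.Lib.Helper2
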