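import Mathlib
import Cfsg.Prelude.Def_Transfer
import Cfsg.Agent.Lib.Helper2.Basic

set_option autoImplicit false

namespace Cfsg.Agent.Lib.Helper2

/-- Two `p`-subgroups of a subgroup `C` of a finite group: after conjugating the second by a suitable
element of `C` they generate a `p`-group. -/
theorem exists_conj_sup_isPGroup {G : Type*} [Group G] [Finite G] {p : ℕ} [Fact p.Prime]
    (C U V : Subgroup G) (hU : U ≤ C) (hV : V ≤ C) (hUp : IsPGroup p U) (hVp : IsPGroup p V) :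
    ∃ c ∈ C, IsPGroup p ↥(U ⊔ V.map (MulAut.conj c).toMonoidHom) := by
  have hU' : IsPGroup p (U.subgroupOf C) := hUp.comap_subtype
  have hV' : IsPGroup p (V.subgroupOf C) := hVp.comap_subtype
  obtain ⟨P1, hP1⟩ := hU'.exists_le_sylow
  obtain ⟨P2, hP2⟩ := hV'.exists_le_sylow
  obtain ⟨c, hc⟩ := MulAction.exists_smul_eq C P2 P1
  refine ⟨c, c.2, ?_⟩
  have hmap : IsPGroup p ((P1 : Subgroup C).map C.subtype) := P1.isPGroup'.map _
  refine hmap.to_le ?_
  refine sup_le ?_ ?_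
  · intro u hu
    refine ⟨⟨u, hU hu⟩, hP1 ?_, rfl⟩
    rw [Subgroup.mem_subgroupOf]
    exact hu
  · intro y hy
    rw [mem_map_conj_iff] at hy
    have hyC : y ∈ C := by
      have h1 : (c : G)⁻¹ * y * c ∈ C := hV hy
      have h2 : (c : G) * ((c : G)⁻¹ * y * c) * (c : G)⁻¹ ∈ C :=
        C.mul_mem (C.mul_mem c.2 h1) (C.inv_mem c.2)
      simpa [mul_assoc] using h2
    refine ⟨⟨y, hyC⟩, ?_, rfl⟩
    rw [← hc]
    show (⟨y, hyC⟩ : C) ∈ ((c • P2 : Sylow p C) : Subgroup C)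
    rw [mem_sylow_smul_iff]
    apply hP2
    rw [Subgroup.mem_subgroupOf]
    simpa using hy

/-- A weakly closed subgroup of a Sylow subgroup coincides with any of its conjugates with which it
generates a `p`-group. -/
theorem weaklyClosed_conj_eq {G : Type*} [Group G] [Finite G] {p : ℕ} [Fact p.Prime]
    (S : Sylow p G) (A : Subgroup G) (hW : Cfsg.IsWeaklyClosed A (S : Subgroup G)) (g : G)
    (hAB2 : IsPGroup p ↥(A ⊔ A.map (MulAut.conj g).toMonoidHom)) :
    A.map (MulAut.conj g).toMonoidHom = A := by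
  obtain ⟨hAS, hcl⟩ := hW
  set B := A.map (MulAut.conj g).toMonoidHom with hB
  obtain ⟨Q, hQ⟩ := hAB2.exists_le_sylow
  obtain ⟨x, rfl⟩ := MulAction.exists_smul_eq G S Q
  have hAQ : A ≤ ((x • S : Sylow p G) : Subgroup G) := le_sup_left.trans hQ
  have hBQ : B ≤ ((x • S : Sylow p G) : Subgroup G) := le_sup_right.trans hQ
  have h1 : A.map (MulAut.conj x⁻¹).toMonoidHom ≤ S := by
    intro y hy
    rw [mem_map_conj_iff] at hy
    have := hAQ hy
    rw [mem_sylow_smul_iff] at this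
    simpa [mul_assoc] using this
  have h1' := hcl x⁻¹ h1
  have h2 : A.map (MulAut.conj (x⁻¹ * g)).toMonoidHom ≤ S := by
    intro y hy
    rw [mem_map_conj_iff] at hy
    have hyB : x * y * x⁻¹ ∈ B := by
      rw [hB, mem_map_conj_iff]
      have e : g⁻¹ * (x * y * x⁻¹) * g = (x⁻¹ * g)⁻¹ * y * (x⁻¹ * g) := by
        simp [mul_assoc]
      rw [e]; exact hy
    have := hBQ hyB
    rw [mem_sylow_smul_iff] at this
    simpa [mul_assoc] using this
  have h2' := hcl (x⁻¹ * g) h2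
  have hx : ∀ y : G, y ∈ A ↔ x * y * x⁻¹ ∈ A := by
    intro y
    conv_lhs => rw [← h1']
    rw [mem_map_conj_iff]
    simp
  have hxg : ∀ y : G, y ∈ A ↔ g⁻¹ * (x * y * x⁻¹) * g ∈ A := by
    intro y
    conv_lhs => rw [← h2']
    rw [mem_map_conj_iff]
    simp [mul_assoc]
  ext y
  rw [hB, mem_map_conj_iff]
  have e : g⁻¹ * y * g = g⁻¹ * (x * (x⁻¹ * y * x) * x⁻¹) * g := by simp [mul_assoc]
  rw [e, ← hxg, hx]
  simp [mul_assoc]

end Cfsg.Agent.Lib.Helper2
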