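import Mathlib
import Cfsg.Agent.Lib.Helper2.GenCoprime2
import Cfsg.Agent.Lib.Helper6.Index
import Cfsg.Agent.Lib.Lead.PmQ

set_option autoImplicit false

namespace Cfsg.Agent.Lib.Helper2

universe u

theorem relIndex_map_subtype' {G : Type*} [Group G] (B : Subgroup G) (K : Subgroup ↥B) :
    (K.map B.subtype).relIndex B = K.index := by
  have h : (K.map B.subtype).subgroupOf B = K := by
    ext x
    rw [Subgroup.mem_subgroupOf]
    constructor
    · rintro ⟨y, hy, hyx⟩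
      have : y = x := Subtype.ext hyx
      rwa [← this]
    · intro hx
      exact ⟨x, hx, rfl⟩
  rw [Subgroup.relIndex, h]

/-- If `A = B⟨x⟩` with `x ^ p = 1` and `x` commuting with `B`, then `|A : B|` divides `p`. -/
theorem relIndex_dvd_of_le_sup_zpowers {H : Type*} [Group H] [Finite H] (p : ℕ)
    (A B : Subgroup H) (hBA : B ≤ A) (x : H) (hxA : x ∈ A) (hxp : x ^ p = 1)
    (hcomm : ∀ b ∈ B, b * x = x * b) (hAB : A ≤ B ⊔ Subgroup.zpowers x) :
    B.relIndex A ∣ p := by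
  have hn : B ≤ Subgroup.normalizer ((Subgroup.zpowers x : Subgroup H) : Set H) := by
    intro b hb
    apply Subgroup.centralizer_le_normalizer
    rw [Subgroup.mem_centralizer_iff]
    intro h hh
    obtain ⟨k, rfl⟩ := Subgroup.mem_zpowers_iff.mp hh
    have hc : Commute b x := hcomm b hb
    exact (hc.zpow_right k).eq.symm
  have h1 := Cfsg.Agent.Lib.Helper6.relIndex_sup_dvd_card (Subgroup.zpowers x) B hn
  have h2 : Subgroup.zpowers x ⊔ B = A :=
    le_antisymm (sup_le (Subgroup.zpowers_le.mpr hxA) hBA) (by rw [sup_comm]; exact hAB)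
  rw [h2, Nat.card_zpowers] at h1
  exact h1.trans (orderOf_dvd_of_pow_eq_one hxp)

/-- Generation by centralizers of subgroups of index dividing `p`. -/
theorem gen_coprime_relIndex {H : Type u} [Group H] [Finite H] (p : ℕ) [hp : Fact p.Prime]
    (A X W : Subgroup H) (hAc : ∀ a ∈ A, ∀ b ∈ A, a * b = b * a) (hAp : ∀ a ∈ A, a ^ p = 1)
    (hX : ¬ p ∣ Nat.card ↥X) (hAX : A ≤ Subgroup.normalizer (X : Set H))
    (hW : ∀ B : Subgroup H, B ≤ A → B.relIndex A ∣ p →
      X ⊓ Subgroup.centralizer (B : Set H) ≤ W) : X ≤ W := by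
  apply gen_coprime p A X W hAc hAp hX hAX
  rintro B hBA ⟨x, hxA, hAB⟩
  exact hW B hBA (relIndex_dvd_of_le_sup_zpowers p A B hBA x hxA (hAp x hxA)
    (fun b hb => hAc b (hBA hb) x hxA) hAB)

/-- If an elementary abelian `p`-group `A` normalizes a `q`-group `Q` (`q ≠ p`) and a proper
`A`-invariant subgroup `D` of `Q`, some subgroup `B` of index dividing `p` in `A` has a fixed
point in `N_Q(D)` outside `D`. -/
theorem exists_hyperplane_fix {H : Type u} [Group H] [Finite H] (p : ℕ) [hp : Fact p.Prime]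
    (q : ℕ) [hq : Fact q.Prime] (hqp : q ≠ p) (A Q D : Subgroup H)
    (hAc : ∀ a ∈ A, ∀ b ∈ A, a * b = b * a) (hAp : ∀ a ∈ A, a ^ p = 1) (hQ : IsPGroup q ↥Q)
    (hAQ : A ≤ Subgroup.normalizer (Q : Set H)) (hAD : A ≤ Subgroup.normalizer (D : Set H))
    (hDQ : D ≤ Q) (hne : D ≠ Q) :
    ∃ B : Subgroup H, B ≤ A ∧ B.relIndex A ∣ p ∧
      ¬ (Subgroup.normalizer (D : Set H) ⊓ Q ⊓ Subgroup.centralizer (B : Set H) ≤ D) := by
  by_contra hall
  push Not at hall
  have hNp : ¬ p ∣ Nat.card ↥(Subgroup.normalizer (D : Set H) ⊓ Q : Subgroup H) := by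
    intro hdvd
    obtain ⟨k, hk⟩ := IsPGroup.iff_card.mp hQ
    have h1 : p ∣ q ^ k := by
      rw [← hk]
      exact hdvd.trans (Subgroup.card_dvd_of_le inf_le_right)
    have h2 := hp.out.dvd_of_dvd_pow h1
    exact hqp ((Nat.prime_dvd_prime_iff_eq hp.out hq.out).mp h2).symm
  have hAN : A ≤ Subgroup.normalizer
      ((Subgroup.normalizer (D : Set H) ⊓ Q : Subgroup H) : Set H) :=
    fun a ha => mem_normalizer_inf _ _ a (Subgroup.le_normalizer (hAD ha)) (hAQ ha)
  have hle : Subgroup.normalizer (D : Set H) ⊓ Q ≤ D :=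
    gen_coprime_relIndex p A _ D hAc hAp hNp hAN (fun B hBA hrel => hall B hBA hrel)
  obtain ⟨s, hsQ, hsN, hsD⟩ := Cfsg.Agent.Lib.Lead.exists_mem_normalizer_not_mem Q D hQ hDQ hne
  exact hsD (hle ⟨hsN, hsQ⟩)

end Cfsg.Agent.Lib.Helper2
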