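import Mathlib

set_option autoImplicit false

namespace Cfsg.Agent.Lib.Helper2

section dihedral

variable {G : Type*} [Group G]

theorem invol_mul_self {s : G} (hs : orderOf s = 2) : s * s = 1 := by
  have h := pow_orderOf_eq_one s
  rwa [hs, pow_two] at h

theorem invol_inv {s : G} (hs : orderOf s = 2) : s⁻¹ = s :=
  inv_eq_of_mul_eq_one_left (invol_mul_self hs)

theorem invol_ne_one {s : G} (hs : orderOf s = 2) : s ≠ 1 := by
  intro h; rw [h, orderOf_one] at hs; omega

theorem orderOf_eq_two_of {s : G} (h1 : s ≠ 1) (h2 : s * s = 1) : orderOf s = 2 := by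
  haveI : Fact (Nat.Prime 2) := ⟨Nat.prime_two⟩
  exact orderOf_eq_prime (by rw [pow_two]; exact h2) h1

theorem orderOf_conj_two {s : G} (g : G) (hs : orderOf s = 2) : orderOf (g * s * g⁻¹) = 2 := by
  apply orderOf_eq_two_of
  · intro h
    apply invol_ne_one hs
    have e : s = g⁻¹ * (g * s * g⁻¹) * g := by group
    rw [e, h]; group
  · have e : g * s * g⁻¹ * (g * s * g⁻¹) = g * (s * s) * g⁻¹ := by group
    rw [e, invol_mul_self hs]; group

theorem invol_conj_pow {s s' : G} (hs : orderOf s = 2) (hs' : orderOf s' = 2) (k : ℕ) :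
    s * (s * s') ^ k * s = ((s * s') ^ k)⁻¹ := by
  have hconj : s * (s * s') * s⁻¹ = (s * s')⁻¹ := by
    rw [mul_inv_rev, invol_inv hs, invol_inv hs']
    calc s * (s * s') * s = (s * s) * s' * s := by group
      _ = s' * s := by rw [invol_mul_self hs, one_mul]
  have h1 : s * (s * s') ^ k * s = (s * (s * s') * s⁻¹) ^ k := by
    rw [conj_pow, invol_inv hs]
  rw [h1, hconj, inv_pow]

theorem invol_conj_pow' {s s' : G} (hs : orderOf s = 2) (hs' : orderOf s' = 2) (k : ℕ) :
    s' * (s * s') ^ k * s' = ((s * s') ^ k)⁻¹ := by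
  have hconj : s' * (s * s') * s'⁻¹ = (s * s')⁻¹ := by
    rw [mul_inv_rev, invol_inv hs, invol_inv hs']
    calc s' * (s * s') * s' = s' * s * (s' * s') := by group
      _ = s' * s := by rw [invol_mul_self hs', mul_one]
  have h1 : s' * (s * s') ^ k * s' = (s' * (s * s') * s'⁻¹) ^ k := by
    rw [conj_pow, invol_inv hs']
  rw [h1, hconj, inv_pow]

/-- Two involutions whose product has odd order are conjugate by an involution. -/
theorem exists_invol_conj_of_odd {s s' : G} (hs : orderOf s = 2) (hs' : orderOf s' = 2)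
    (hodd : Odd (orderOf (s * s'))) : ∃ w : G, orderOf w = 2 ∧ w * s * w⁻¹ = s' := by
  obtain ⟨l, hl⟩ := hodd
  have hss := invol_mul_self hs
  have hr : (s * s') ^ (2 * l + 1) = 1 := by rw [← hl]; exact pow_orderOf_eq_one _
  have h4 := invol_conj_pow hs hs' (l + 1)
  have hg2 : ((s * s') ^ (l + 1))⁻¹ * ((s * s') ^ (l + 1))⁻¹ = s' * s := by
    rw [← mul_inv_rev, ← pow_add]
    have e : l + 1 + (l + 1) = (2 * l + 1) + 1 := by ring
    rw [e, pow_succ, hr, one_mul, mul_inv_rev, invol_inv hs, invol_inv hs']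
  refine ⟨s * (s * s') ^ (l + 1), ?_, ?_⟩
  · apply orderOf_eq_two_of
    · intro h
      have h1 : s = ((s * s') ^ (l + 1))⁻¹ := eq_inv_of_mul_eq_one_left h
      have h2 : s ^ (2 * l + 1) = 1 := by
        rw [h1, inv_pow, ← pow_mul, mul_comm, pow_mul, hr, one_pow, inv_one]
      have h3 : s ^ (2 * l + 1) = s := by
        rw [pow_succ, pow_mul, pow_two, hss, one_pow, one_mul]
      rw [h3] at h2
      exact invol_ne_one hs h2
    · calc s * (s * s') ^ (l + 1) * (s * (s * s') ^ (l + 1))
          = (s * (s * s') ^ (l + 1) * s) * (s * s') ^ (l + 1) := by group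
        _ = 1 := by rw [h4, inv_mul_cancel]
  · have hw2 : (s * (s * s') ^ (l + 1))⁻¹ = ((s * s') ^ (l + 1))⁻¹ * s := by
      rw [mul_inv_rev, invol_inv hs]
    rw [hw2]
    calc s * (s * s') ^ (l + 1) * s * (((s * s') ^ (l + 1))⁻¹ * s)
        = (s * (s * s') ^ (l + 1) * s) * ((s * s') ^ (l + 1))⁻¹ * s := by group
      _ = ((s * s') ^ (l + 1))⁻¹ * ((s * s') ^ (l + 1))⁻¹ * s := by rw [h4]
      _ = s' := by rw [hg2, mul_assoc, hss, mul_one]

/-- Two involutions whose product has (positive) even order commute with a common involution. -/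
theorem exists_invol_comm_of_even {s s' : G} (hs : orderOf s = 2) (hs' : orderOf s' = 2)
    (heven : Even (orderOf (s * s'))) (hpos : 0 < orderOf (s * s')) :
    ∃ z : G, orderOf z = 2 ∧ z * s = s * z ∧ z * s' = s' * z := by
  obtain ⟨k, hk⟩ := heven
  have hk0 : k ≠ 0 := by
    intro h; rw [h] at hk; omega
  have hz : orderOf ((s * s') ^ k) = 2 := by
    rw [orderOf_pow_of_dvd hk0 ⟨2, by rw [hk]; ring⟩, hk]
    have e : k + k = 2 * k := by ring
    rw [e, Nat.mul_div_cancel _ (Nat.pos_of_ne_zero hk0)]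
  refine ⟨(s * s') ^ k, hz, ?_, ?_⟩
  · have h1 := invol_conj_pow hs hs' k
    rw [invol_inv hz] at h1
    calc (s * s') ^ k * s = (s * (s * s') ^ k * s) * s := by rw [h1]
      _ = s * (s * s') ^ k * (s * s) := by group
      _ = s * (s * s') ^ k := by rw [invol_mul_self hs, mul_one]
  · have h1 := invol_conj_pow' hs hs' k
    rw [invol_inv hz] at h1
    calc (s * s') ^ k * s' = (s' * (s * s') ^ k * s') * s' := by rw [h1]
      _ = s' * (s * s') ^ k * (s' * s') := by group
      _ = s' * (s * s') ^ k := by rw [invol_mul_self hs', mul_one]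

end dihedral

section action

variable {G : Type*} [Group G] [Finite G] {Ω : Type*} [MulAction G Ω]

/-- Involutions with distinct (unique) fixed points have a product of odd order. -/
theorem invol_prod_odd (hfix : ∀ i : G, orderOf i = 2 → ∃! x : Ω, i • x = x)
    {s s' : G} (hs : orderOf s = 2) (hs' : orderOf s' = 2) {x y : Ω} (hx : s • x = x)
    (hy : s' • y = y) (hxy : x ≠ y) : Odd (orderOf (s * s')) := by
  by_contra hodd
  rw [Nat.not_odd_iff_even] at hodd
  obtain ⟨z, hz, hzs, hzs'⟩ := exists_invol_comm_of_even hs hs' hodd (orderOf_pos _)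
  have h1 : z • x = x := by
    have h2 : s • (z • x) = z • x := by
      rw [smul_smul, ← hzs, mul_smul, hx]
    exact (hfix s hs).unique h2 hx
  have h3 : z • y = y := by
    have h2 : s' • (z • y) = z • y := by
      rw [smul_smul, ← hzs', mul_smul, hy]
    exact (hfix s' hs').unique h2 hy
  exact hxy ((hfix z hz).unique h1 h3)

/-- Involutions with distinct fixed points `x`, `y` are conjugate by an involution taking `x`
to `y`. -/
theorem exists_invol_conj (hfix : ∀ i : G, orderOf i = 2 → ∃! x : Ω, i • x = x)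
    {s s' : G} (hs : orderOf s = 2) (hs' : orderOf s' = 2) {x y : Ω} (hx : s • x = x)
    (hy : s' • y = y) (hxy : x ≠ y) :
    ∃ w : G, orderOf w = 2 ∧ w * s * w⁻¹ = s' ∧ w • x = y := by
  obtain ⟨w, hw, hws⟩ := exists_invol_conj_of_odd hs hs' (invol_prod_odd hfix hs hs' hx hy hxy)
  refine ⟨w, hw, hws, ?_⟩
  have h2 : s' • (w • x) = w • x := by
    rw [← hws, smul_smul]
    have e : w * s * w⁻¹ * w = w * s := by group
    rw [e, mul_smul, hx]
  exact (hfix s' hs').unique h2 hy

theorem card_invol_fix_le (x : Ω) (g : G) :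
    Nat.card {i : G // orderOf i = 2 ∧ i • x = x} ≤
      Nat.card {i : G // orderOf i = 2 ∧ i • (g • x) = g • x} := by
  refine Nat.card_le_card_of_injective
    (fun i => ⟨g * i.1 * g⁻¹, orderOf_conj_two g i.2.1, ?_⟩) ?_
  · rw [smul_smul]
    have e : g * i.1 * g⁻¹ * g = g * i.1 := by group
    rw [e, mul_smul, i.2.2]
  · intro i j hij
    have h1 : g * i.1 * g⁻¹ = g * j.1 * g⁻¹ := congrArg Subtype.val hij
    apply Subtype.ext
    have e : i.1 = g⁻¹ * (g * i.1 * g⁻¹) * g := by group
    rw [e, h1]; group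

theorem card_invol_fix_eq (x : Ω) (g : G) :
    Nat.card {i : G // orderOf i = 2 ∧ i • (g • x) = g • x} =
      Nat.card {i : G // orderOf i = 2 ∧ i • x = x} := by
  apply le_antisymm _ (card_invol_fix_le x g)
  have h := card_invol_fix_le (g • x) g⁻¹
  rw [inv_smul_smul] at h
  exact h

theorem card_invol_swap_ge (hfix : ∀ i : G, orderOf i = 2 → ∃! x : Ω, i • x = x)
    {s : G} (hs : orderOf s = 2) {x y : Ω} (hx : s • x = x) (hxy : x ≠ y) :
    Nat.card {i : G // orderOf i = 2 ∧ i • y = y} ≤
      Nat.card {i : G // orderOf i = 2 ∧ i • x = y} := by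
  have key : ∀ s' : {i : G // orderOf i = 2 ∧ i • y = y},
      ∃ w : {i : G // orderOf i = 2 ∧ i • x = y}, w.1 * s * w.1⁻¹ = s'.1 := by
    intro s'
    obtain ⟨w, hw, hws, hwx⟩ := exists_invol_conj hfix hs s'.2.1 hx s'.2.2 hxy
    exact ⟨⟨w, hw, hwx⟩, hws⟩
  choose f hf using key
  refine Nat.card_le_card_of_injective f ?_
  intro a b hab
  apply Subtype.ext
  rw [← hf a, ← hf b, hab]

theorem card_invol_eq_sum_map [Fintype Ω] (x : Ω) :
    Nat.card {i : G // orderOf i = 2} =
      ∑ y : Ω, Nat.card {i : G // orderOf i = 2 ∧ i • x = y} := by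
  have e1 := (Equiv.sigmaFiberEquiv (fun i : {i : G // orderOf i = 2} => i.1 • x)).symm
  rw [Nat.card_congr e1, Nat.card_sigma]
  apply Finset.sum_congr rfl
  intro y _
  exact Nat.card_congr (Equiv.subtypeSubtypeEquivSubtypeInter (fun i : G => orderOf i = 2)
    (fun i : G => i • x = y))

theorem card_invol_eq_sum_fix [Fintype Ω]
    (hfix : ∀ i : G, orderOf i = 2 → ∃! x : Ω, i • x = x) :
    Nat.card {i : G // orderOf i = 2} =
      ∑ y : Ω, Nat.card {i : G // orderOf i = 2 ∧ i • y = y} := by
  classical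
  have e1 := (Equiv.sigmaFiberEquiv
    (fun i : {i : G // orderOf i = 2} => Classical.choose (hfix i.1 i.2).exists)).symm
  rw [Nat.card_congr e1, Nat.card_sigma]
  apply Finset.sum_congr rfl
  intro y _
  refine Nat.card_congr ((Equiv.subtypeEquivRight ?_).trans
    (Equiv.subtypeSubtypeEquivSubtypeInter (fun i : G => orderOf i = 2)
      (fun i : G => i • y = y)))
  intro i
  have hspec := Classical.choose_spec (hfix i.1 i.2).exists
  constructor
  · intro h
    rw [← h]; exact hspec
  · intro h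
    exact (hfix i.1 i.2).unique hspec h

/-- If every involution fixes exactly one point of a transitive `G`-set, then for `x ≠ y` the
number of involutions taking `x` to `y` equals the number of involutions fixing `x`. -/
theorem card_invol_swap [Finite Ω] [MulAction.IsPretransitive G Ω]
    (hfix : ∀ i : G, orderOf i = 2 → ∃! x : Ω, i • x = x) (x y : Ω) (hxy : x ≠ y) :
    Nat.card {i : G // orderOf i = 2 ∧ i • x = y} =
      Nat.card {i : G // orderOf i = 2 ∧ i • x = x} := by
  classical
  haveI : Fintype Ω := Fintype.ofFinite Ω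
  have hm : ∀ z : Ω, Nat.card {i : G // orderOf i = 2 ∧ i • z = z} =
      Nat.card {i : G // orderOf i = 2 ∧ i • x = x} := by
    intro z
    obtain ⟨g, rfl⟩ := MulAction.exists_smul_eq G x z
    exact card_invol_fix_eq x g
  have hsum : ∑ z : Ω, Nat.card {i : G // orderOf i = 2 ∧ i • x = x} =
      ∑ z : Ω, Nat.card {i : G // orderOf i = 2 ∧ i • x = z} := by
    rw [← card_invol_eq_sum_map x, card_invol_eq_sum_fix hfix]
    exact Finset.sum_congr rfl (fun z _ => (hm z).symm)
  have hle : ∀ z ∈ (Finset.univ : Finset Ω), Nat.card {i : G // orderOf i = 2 ∧ i • x = x} ≤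
      Nat.card {i : G // orderOf i = 2 ∧ i • x = z} := by
    intro z _
    by_cases hz : x = z
    · rw [← hz]
    · rcases Nat.eq_zero_or_pos (Nat.card {i : G // orderOf i = 2 ∧ i • x = x}) with h0 | h0
      · rw [h0]; exact Nat.zero_le _
      · haveI : Nonempty {i : G // orderOf i = 2 ∧ i • x = x} := (Nat.card_pos_iff.mp h0).1
        obtain ⟨s, hs, hsx⟩ := (inferInstance : Nonempty {i : G // orderOf i = 2 ∧ i • x = x})
        rw [← hm z]
        exact card_invol_swap_ge hfix hs hsx hz
  exact ((Finset.sum_eq_sum_iff_of_le hle).mp hsum y (Finset.mem_univ y)).symm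

/-- In the same situation, conjugating a fixed involution `s` fixing `x` by the involutions
taking `x` to `y` gives each involution fixing `y` exactly once. -/
theorem invol_conj_bijective [Finite Ω] [MulAction.IsPretransitive G Ω]
    (hfix : ∀ i : G, orderOf i = 2 → ∃! x : Ω, i • x = x) (x y : Ω) (hxy : x ≠ y)
    {s : G} (hs : orderOf s = 2) (hsx : s • x = x)
    (f : {i : G // orderOf i = 2 ∧ i • x = y} → {i : G // orderOf i = 2 ∧ i • y = y})
    (hf : ∀ w, (f w).1 = w.1 * s * w.1⁻¹) : Function.Bijective f := by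
  rw [Nat.bijective_iff_surjective_and_card]
  constructor
  · intro s'
    obtain ⟨w, hw, hws, hwx⟩ := exists_invol_conj hfix hs s'.2.1 hsx s'.2.2 hxy
    exact ⟨⟨w, hw, hwx⟩, Subtype.ext (by rw [hf]; exact hws)⟩
  · rw [card_invol_swap hfix x y hxy]
    obtain ⟨g, rfl⟩ := MulAction.exists_smul_eq G x y
    exact (card_invol_fix_eq x g).symm

end action

end Cfsg.Agent.Lib.Helper2
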