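import Mathlib
import Cfsg.Prelude
import Cfsg.Agent.Lib.Lead.CoprimeAction2
import Cfsg.Agent.Lib.Lead.SZ
import Cfsg.Agent.Lib.Helper3.PGroup

set_option autoImplicit false

namespace Cfsg.Agent.Lib.Helper2

open scoped commutatorElement

/-- The symmetrized product of a list: the product followed by the product in reverse order. -/
def symProd {X : Type*} [Group X] (l : List X) : X := l.prod * l.reverse.prod

theorem symProd_cons {X : Type*} [Group X] (u : X) (l : List X) :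
    symProd (u :: l) = u * symProd l * u := by
  unfold symProd
  rw [List.reverse_cons, List.prod_append, List.prod_cons, List.prod_singleton]
  group

theorem symProd_mem {X : Type*} [Group X] (R : Subgroup X) (l : List X) (hl : ∀ u ∈ l, u ∈ R) :
    symProd l ∈ R := by
  unfold symProd
  apply R.mul_mem
  · exact Subgroup.list_prod_mem R hl
  · apply Subgroup.list_prod_mem R
    intro u hu
    exact hl u (List.mem_reverse.mp hu)

theorem symProd_perm {X : Type*} [Group X] (R : Subgroup X)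
    (hcent : ∀ u ∈ R, ∀ v ∈ R, ∀ w ∈ R, (u * v * u⁻¹ * v⁻¹) * w = w * (u * v * u⁻¹ * v⁻¹))
    {l l' : List X} (h : l.Perm l') (hl : ∀ u ∈ l, u ∈ R) : symProd l = symProd l' := by
  induction h with
  | nil => rfl
  | cons u h ih =>
    rw [symProd_cons, symProd_cons, ih (fun v hv => hl v (List.mem_cons_of_mem _ hv))]
  | swap u v l =>
    simp only [symProd_cons]
    have hu : u ∈ R := hl u (by simp)
    have hv : v ∈ R := hl v (by simp)
    have hM : symProd l ∈ R := symProd_mem R l (fun w hw => hl w (by simp [hw]))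
    obtain ⟨M, hMdef⟩ : ∃ M, M = symProd l := ⟨_, rfl⟩
    rw [← hMdef] at hM ⊢
    have hc := hcent u hu v hv (v * u * M) (R.mul_mem (R.mul_mem hv hu) hM)
    have h1 : u * v * M = v * u * M * (u * v * u⁻¹ * v⁻¹) := by
      rw [← hc]; group
    calc v * (u * M * u) * v = v * u * M * (u * v) := by group
      _ = v * u * M * (u * v * u⁻¹ * v⁻¹) * (v * u) := by group
      _ = u * v * M * (v * u) := by rw [← h1]
      _ = u * (v * M * v) * u := by group
  | trans h₁ h₂ ih₁ ih₂ =>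
    rw [ih₁ hl, ih₂ (fun v hv => hl v (h₁.mem_iff.mpr hv))]

theorem symProd_conj {X : Type*} [Group X] (g : X) (l : List X) :
    g * symProd l * g⁻¹ = symProd (l.map (fun u => g * u * g⁻¹)) := by
  induction l with
  | nil => simp [symProd]
  | cons u l ih =>
    rw [List.map_cons, symProd_cons, symProd_cons, ← ih]
    group

theorem symProd_map_mul_right {X : Type*} [Group X] (z : X) (l : List X)
    (hz : ∀ u ∈ l, z * u = u * z) :
    symProd (l.map (fun u => u * z)) = symProd l * z ^ (2 * l.length) := by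
  induction l with
  | nil => simp [symProd]
  | cons u l ih =>
    have hzu : z * u = u * z := hz u (by simp)
    have hzl : ∀ v ∈ l, z * v = v * z := fun v hv => hz v (List.mem_cons_of_mem _ hv)
    have hzS : z * symProd l = symProd l * z := by
      unfold symProd
      have h1 : Commute z l.prod := Commute.list_prod_right _ _ (fun v hv => hzl v hv)
      have h2 : Commute z l.reverse.prod :=
        Commute.list_prod_right _ _ (fun v hv => hzl v (List.mem_reverse.mp hv))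
      exact (h1.mul_right h2).eq
    rw [List.map_cons, symProd_cons, symProd_cons, ih hzl, List.length_cons]
    have hzpow : z ^ (2 * l.length) * u = u * z ^ (2 * l.length) :=
      (Commute.pow_left hzu (2 * l.length)).eq
    calc u * z * (symProd l * z ^ (2 * l.length)) * (u * z)
        = u * (z * symProd l) * (z ^ (2 * l.length) * u) * z := by group
      _ = u * (symProd l * z) * (u * z ^ (2 * l.length)) * z := by rw [hzS, hzpow]
      _ = u * symProd l * (z * u) * z ^ (2 * l.length) * z := by group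
      _ = u * symProd l * (u * z) * z ^ (2 * l.length) * z := by rw [hzu]
      _ = u * symProd l * u * z ^ (2 * (l.length + 1)) := by group

/-- The averaging step: an `A`-invariant coset of the central subgroup `C = C_R(K)` contains an
`A`-fixed element. -/
theorem pq_act_key {X : Type*} [Group X] [Finite X] {p : ℕ} [Fact p.Prime] (hp2 : p ≠ 2)
    (A K R C : Subgroup X) (hK : (Nat.card K).Coprime p) (hR : IsPGroup p R)
    (hAK : ∀ a ∈ A, ∀ k ∈ K, a * k * a⁻¹ ∈ K)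
    (hKR : ∀ k ∈ K, ∀ r ∈ R, k * r * k⁻¹ ∈ R)
    (hCR : C ≤ R)
    (hCdef : ∀ r ∈ R, (∀ k ∈ K, k * r = r * k) → r ∈ C)
    (hCK : ∀ c ∈ C, ∀ k ∈ K, k * c = c * k)
    (hCZ : ∀ c ∈ C, ∀ r ∈ R, c * r = r * c)
    (hcomm : ∀ u ∈ R, ∀ v ∈ R, u * v * u⁻¹ * v⁻¹ ∈ C)
    (x : X) (hxR : x ∈ R) (hxA : ∀ a ∈ A, x⁻¹ * (a * x * a⁻¹) ∈ C) :
    ∃ w ∈ C, ∀ a ∈ A, a * (x * w⁻¹) * a⁻¹ = x * w⁻¹ := by
  classical
  have hp : p.Prime := Fact.out
  haveI : Fintype ↥K := Fintype.ofFinite _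
  obtain ⟨L₀, hL₀def⟩ : ∃ L₀ : List ↥K, L₀ = (Finset.univ : Finset ↥K).toList := ⟨_, rfl⟩
  have hL₀nd : L₀.Nodup := by rw [hL₀def]; exact Finset.nodup_toList _
  have hL₀mem : ∀ k : ↥K, k ∈ L₀ := by intro k; rw [hL₀def]; simp
  obtain ⟨φ, hφdef⟩ : ∃ φ : ↥K → X, φ = fun k : ↥K => (k : X) * x * (k : X)⁻¹ := ⟨_, rfl⟩
  have hφR : ∀ k : ↥K, φ k ∈ R := by intro k; rw [hφdef]; exact hKR k.1 k.2 x hxR
  obtain ⟨Y, hYdef⟩ : ∃ Y : X, Y = symProd (L₀.map φ) := ⟨_, rfl⟩
  have hcent : ∀ u ∈ R, ∀ v ∈ R, ∀ w ∈ R,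
      (u * v * u⁻¹ * v⁻¹) * w = w * (u * v * u⁻¹ * v⁻¹) :=
    fun u hu v hv w hw => hCZ _ (hcomm u hu v hv) w hw
  have hmapR : ∀ (l : List ↥K), ∀ u ∈ l.map φ, u ∈ R := by
    intro l u hu
    obtain ⟨k, _, rfl⟩ := List.mem_map.mp hu
    exact hφR k
  have hYR : Y ∈ R := by rw [hYdef]; exact symProd_mem R _ (hmapR L₀)
  have hperm : ∀ σ : ↥K → ↥K, Function.Injective σ → (L₀.map σ).Perm L₀ := by
    intro σ hσ
    rw [List.perm_ext_iff_of_nodup (hL₀nd.map hσ) hL₀nd]
    intro k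
    constructor
    · intro _; exact hL₀mem k
    · intro _
      obtain ⟨k', hk'⟩ := (Finite.injective_iff_surjective.mp hσ) k
      exact List.mem_map.mpr ⟨k', hL₀mem k', hk'⟩
  have hYK : ∀ k' ∈ K, k' * Y = Y * k' := by
    intro k' hk'
    have h1 : k' * Y * k'⁻¹ = Y := by
      rw [hYdef, symProd_conj, List.map_map]
      have h2 : ((fun u => k' * u * k'⁻¹) ∘ φ) = φ ∘ (fun k : ↥K => (⟨k', hk'⟩ : ↥K) * k) := by
        funext k
        rw [hφdef]
        show k' * ((k : X) * x * (k : X)⁻¹) * k'⁻¹ = (k' * (k : X)) * x * (k' * (k : X))⁻¹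
        group
      rw [h2, ← List.map_map]
      exact symProd_perm R hcent ((hperm _ (mul_right_injective _)).map φ) (hmapR _)
    calc k' * Y = k' * Y * k'⁻¹ * k' := by group
      _ = Y * k' := by rw [h1]
  have hYC : Y ∈ C := hCdef Y hYR hYK
  obtain ⟨n, hndef⟩ : ∃ n : ℕ, n = L₀.length := ⟨_, rfl⟩
  have hYA : ∀ a ∈ A, a * Y * a⁻¹ = Y * (x⁻¹ * (a * x * a⁻¹)) ^ (2 * n) := by
    intro a ha
    obtain ⟨z, hzdef⟩ : ∃ z : X, z = x⁻¹ * (a * x * a⁻¹) := ⟨_, rfl⟩
    have hzC : z ∈ C := by rw [hzdef]; exact hxA a ha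
    rw [← hzdef, hYdef, symProd_conj, List.map_map]
    obtain ⟨σ, hσdef⟩ : ∃ σ : ↥K → ↥K,
        σ = fun k : ↥K => ⟨a * (k : X) * a⁻¹, hAK a ha k.1 k.2⟩ := ⟨_, rfl⟩
    have hσinj : Function.Injective σ := by
      intro k₁ k₂ h
      rw [hσdef] at h
      have h' : a * (k₁ : X) * a⁻¹ = a * (k₂ : X) * a⁻¹ := congrArg Subtype.val h
      apply Subtype.ext
      calc (k₁ : X) = a⁻¹ * (a * (k₁ : X) * a⁻¹) * a := by group
        _ = a⁻¹ * (a * (k₂ : X) * a⁻¹) * a := by rw [h']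
        _ = (k₂ : X) := by group
    have h2 : ((fun u => a * u * a⁻¹) ∘ φ) = (fun u => u * z) ∘ φ ∘ σ := by
      funext k
      rw [hφdef, hσdef]
      show a * ((k : X) * x * (k : X)⁻¹) * a⁻¹
        = (a * (k : X) * a⁻¹) * x * (a * (k : X) * a⁻¹)⁻¹ * z
      have hkz : (a * (k : X) * a⁻¹) * z = z * (a * (k : X) * a⁻¹) :=
        hCK z hzC _ (hAK a ha k.1 k.2)
      have hkz' : (a * (k : X) * a⁻¹)⁻¹ * z = z * (a * (k : X) * a⁻¹)⁻¹ := by
        calc (a * (k : X) * a⁻¹)⁻¹ * z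
            = (a * (k : X) * a⁻¹)⁻¹ * (z * (a * (k : X) * a⁻¹)) * (a * (k : X) * a⁻¹)⁻¹ := by
              group
          _ = (a * (k : X) * a⁻¹)⁻¹ * ((a * (k : X) * a⁻¹) * z) * (a * (k : X) * a⁻¹)⁻¹ := by
              rw [hkz]
          _ = z * (a * (k : X) * a⁻¹)⁻¹ := by group
      symm
      calc (a * (k : X) * a⁻¹) * x * (a * (k : X) * a⁻¹)⁻¹ * z
          = (a * (k : X) * a⁻¹) * x * ((a * (k : X) * a⁻¹)⁻¹ * z) := by group
        _ = (a * (k : X) * a⁻¹) * x * (z * (a * (k : X) * a⁻¹)⁻¹) := by rw [hkz']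
        _ = a * ((k : X) * x * (k : X)⁻¹) * a⁻¹ := by rw [hzdef]; group
    rw [h2, ← List.map_map, ← List.map_map]
    rw [symProd_map_mul_right z _ (fun u hu => hCZ z hzC u (hmapR _ u hu))]
    rw [symProd_perm R hcent ((hperm σ hσinj).map φ) (hmapR _)]
    rw [List.length_map, List.length_map, ← hndef]
  obtain ⟨e, he⟩ := hR.exists_card_eq
  have hn_cop : (2 * n).Coprime (p ^ e) := by
    apply Nat.Coprime.pow_right
    apply Nat.Coprime.mul_left
    · rw [Nat.coprime_comm, Nat.Prime.coprime_iff_not_dvd hp]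
      intro h
      exact hp2 ((Nat.prime_dvd_prime_iff_eq hp Nat.prime_two).mp h)
    · rw [hndef, hL₀def, Finset.length_toList, Finset.card_univ, ← Nat.card_eq_fintype_card]
      exact hK
  have hpow : ∀ c ∈ R, c ^ (p ^ e) = 1 := by
    intro c hc
    rw [← he]
    exact congrArg Subtype.val (pow_card_eq_one' (G := R) (x := ⟨c, hc⟩))
  obtain ⟨m, hm⟩ : ∃ m : ℕ, ∀ c ∈ R, c ^ (2 * n * m) = c := by
    by_cases he0 : p ^ e = 1
    · refine ⟨0, ?_⟩
      intro c hc
      have h1 := hpow c hc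
      rw [he0, pow_one] at h1
      rw [h1]; simp
    · have h1 : 1 < p ^ e := by
        have : 0 < p ^ e := pow_pos hp.pos e
        omega
      obtain ⟨m, -, hm⟩ := Nat.exists_mul_mod_eq_one_of_coprime hn_cop h1
      refine ⟨m, ?_⟩
      intro c hc
      calc c ^ (2 * n * m)
          = c ^ (p ^ e * (2 * n * m / p ^ e) + 2 * n * m % p ^ e) := by rw [Nat.div_add_mod]
        _ = c := by rw [pow_add, pow_mul, hpow c hc, one_pow, one_mul, hm, pow_one]
  refine ⟨Y ^ m, C.pow_mem hYC m, ?_⟩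
  intro a ha
  obtain ⟨z, hzdef⟩ : ∃ z : X, z = x⁻¹ * (a * x * a⁻¹) := ⟨_, rfl⟩
  have hzC : z ∈ C := by rw [hzdef]; exact hxA a ha
  have h1 : a * Y * a⁻¹ = Y * z ^ (2 * n) := by rw [hzdef]; exact hYA a ha
  have hYz : Commute Y z := hCZ Y hYC z (hCR hzC)
  have h2 : a * Y ^ m * a⁻¹ = Y ^ m * z := by
    calc a * Y ^ m * a⁻¹ = (a * Y * a⁻¹) ^ m := by rw [conj_pow]
      _ = (Y * z ^ (2 * n)) ^ m := by rw [h1]
      _ = Y ^ m * (z ^ (2 * n)) ^ m := (hYz.pow_right _).mul_pow m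
      _ = Y ^ m * z := by rw [← pow_mul, hm z (hCR hzC)]
  have h3 : a * x * a⁻¹ = x * z := by rw [hzdef]; group
  calc a * (x * (Y ^ m)⁻¹) * a⁻¹ = (a * x * a⁻¹) * (a * Y ^ m * a⁻¹)⁻¹ := by group
    _ = x * z * (Y ^ m * z)⁻¹ := by rw [h3, h2]
    _ = x * (Y ^ m)⁻¹ := by group

end Cfsg.Agent.Lib.Helper2
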