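import Mathlib
import Cfsg.Prelude
import Cfsg.Agent.Lib.Helper2.PQAct

set_option autoImplicit false

namespace Cfsg.Agent.Lib.Helper2

open scoped commutatorElement

/-- A subgroup normalizing `H₁` and `H₂` normalizes `⁅H₁, H₂⁆`. -/
theorem normalizer_commutator_of_normalizer {X : Type*} [Group X] (A H₁ H₂ : Subgroup X)
    (h₁ : A ≤ Subgroup.normalizer (H₁ : Set X)) (h₂ : A ≤ Subgroup.normalizer (H₂ : Set X)) :
    A ≤ Subgroup.normalizer ((⁅H₁, H₂⁆ : Subgroup X) : Set X) := by
  apply Cfsg.Agent.Lib.Lead.le_normalizer_of_conj_mem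
  intro a ha y hy
  rw [Subgroup.commutator_def] at hy ⊢
  apply Cfsg.Agent.Lib.Lead.conj_mem_closure _ a _ y hy
  rintro s ⟨r, hr, k, hk, rfl⟩
  rw [← Subgroup.commutator_def]
  have h1 : a * ⁅r, k⁆ * a⁻¹ = ⁅a * r * a⁻¹, a * k * a⁻¹⁆ := by
    simp only [commutatorElement_def]; group
  rw [h1]
  exact Subgroup.commutator_mem_commutator
    (Cfsg.Agent.Lib.Lead.conj_mem_of_mem_normalizer (h₁ ha) hr)
    (Cfsg.Agent.Lib.Lead.conj_mem_of_mem_normalizer (h₂ ha) hk)

/-- In a `p`-group `T`, for normal subgroups `C < R` there is `x ∈ R ∖ C` central modulo `C`. -/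
theorem exists_central_mod {X : Type*} [Group X] [Finite X] {p : ℕ} [Fact p.Prime]
    (T R C : Subgroup X) (hT : IsPGroup p T) (hRT : R ≤ T) (hCR : C ≤ R) (hne : C ≠ R)
    (hTR : T ≤ Subgroup.normalizer (R : Set X)) (hTC : T ≤ Subgroup.normalizer (C : Set X)) :
    ∃ x ∈ R, x ∉ C ∧ ∀ t ∈ T, x⁻¹ * (t * x * t⁻¹) ∈ C := by
  have hCT : C ≤ T := le_trans hCR hRT
  haveI hCn : (C.subgroupOf T).Normal := (Subgroup.normal_subgroupOf_iff_le_normalizer hCT).mpr hTC
  haveI hRn : (R.subgroupOf T).Normal := (Subgroup.normal_subgroupOf_iff_le_normalizer hRT).mpr hTR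
  obtain ⟨π, hπdef⟩ : ∃ π : ↥T →* ↥T ⧸ C.subgroupOf T, π = QuotientGroup.mk' (C.subgroupOf T) :=
    ⟨_, rfl⟩
  have hπ1 : ∀ g : ↥T, π g = 1 ↔ (g : X) ∈ C := by
    intro g; rw [hπdef]
    rw [QuotientGroup.mk'_apply, QuotientGroup.eq_one_iff, Subgroup.mem_subgroupOf]
  have hπs : Function.Surjective π := by rw [hπdef]; exact QuotientGroup.mk'_surjective _
  have hQ : IsPGroup p (↥T ⧸ C.subgroupOf T) := hT.to_quotient _
  haveI hNn : ((R.subgroupOf T).map π).Normal := Subgroup.Normal.map hRn π hπs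
  have hNne : (R.subgroupOf T).map π ≠ ⊥ := by
    intro hbot
    apply hne
    apply le_antisymm hCR
    intro r hr
    have h1 : π ⟨r, hRT hr⟩ ∈ (R.subgroupOf T).map π :=
      Subgroup.mem_map_of_mem π (Subgroup.mem_subgroupOf.mpr hr)
    rw [hbot, Subgroup.mem_bot] at h1
    exact (hπ1 _).mp h1
  obtain ⟨z, hzN, hz1, hzc⟩ :=
    Cfsg.Agent.Lib.Helper3.exists_ne_one_mem_center_of_normal hQ ((R.subgroupOf T).map π) hNne
  obtain ⟨x', hx'R, rfl⟩ := hzN
  refine ⟨(x' : X), Subgroup.mem_subgroupOf.mp hx'R, ?_, ?_⟩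
  · intro hxC
    exact hz1 ((hπ1 x').mpr hxC)
  · intro t ht
    rw [Subgroup.mem_center_iff] at hzc
    have h1 := hzc (π ⟨t, ht⟩)
    have h2 : π (x'⁻¹ * (⟨t, ht⟩ * x' * ⟨t, ht⟩⁻¹)) = 1 := by
      rw [map_mul, map_mul, map_mul, map_inv, map_inv, h1]
      group
    exact (hπ1 _).mp h2

theorem pq_act_main {X : Type*} [Group X] [Finite X] {p : ℕ} [Fact p.Prime] (hp2 : p ≠ 2)
    (A K : Subgroup X) (hA : IsPGroup p A) (hK : (Nat.card K).Coprime p)
    (hAK : A ≤ Subgroup.normalizer (K : Set X)) :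
    ∀ (n : ℕ) (R : Subgroup X), Nat.card R ≤ n → IsPGroup p R →
      A ≤ Subgroup.normalizer (R : Set X) → K ≤ Subgroup.normalizer (R : Set X) →
      R ⊓ Subgroup.centralizer (A : Set X) ≤ Subgroup.centralizer (K : Set X) →
      K ≤ Subgroup.centralizer (R : Set X) := by
  intro n
  induction n with
  | zero =>
    intro R hn
    exfalso
    have := Nat.card_pos (α := R)
    omega
  | succ n ih =>
    intro R hn hR hAR hKR hC
    by_contra hcon
    have hIH : ∀ R' : Subgroup X, R' < R → A ≤ Subgroup.normalizer (R' : Set X) →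
        K ≤ Subgroup.normalizer (R' : Set X) → K ≤ Subgroup.centralizer (R' : Set X) := by
      intro R' hlt hAR' hKR'
      have hcard : Nat.card R' < Nat.card R :=
        Nat.lt_of_le_of_ne (Subgroup.card_le_of_le hlt.le)
          (fun h => hlt.ne (Subgroup.eq_of_le_of_card_ge hlt.le h.ge))
      exact ih R' (by omega) (hR.to_le hlt.le) hAR' hKR'
        (le_trans (inf_le_inf_right _ hlt.le) hC)
    have hAKel : ∀ a ∈ A, ∀ k ∈ K, a * k * a⁻¹ ∈ K :=
      fun a ha k hk => Cfsg.Agent.Lib.Lead.conj_mem_of_mem_normalizer (hAK ha) hk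
    have hARel : ∀ a ∈ A, ∀ r ∈ R, a * r * a⁻¹ ∈ R :=
      fun a ha r hr => Cfsg.Agent.Lib.Lead.conj_mem_of_mem_normalizer (hAR ha) hr
    have hKRel : ∀ k ∈ K, ∀ r ∈ R, k * r * k⁻¹ ∈ R :=
      fun k hk r hr => Cfsg.Agent.Lib.Lead.conj_mem_of_mem_normalizer (hKR hk) hr
    have hR1le : ⁅R, K⁆ ≤ R := Cfsg.Agent.Lib.Lead.commutator_le_of_le_normalizer R K hKR
    have hR1K : K ≤ Subgroup.normalizer ((⁅R, K⁆ : Subgroup X) : Set X) :=
      normalizer_commutator_of_normalizer K R K hKR Subgroup.le_normalizer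
    have hR1A : A ≤ Subgroup.normalizer ((⁅R, K⁆ : Subgroup X) : Set X) :=
      normalizer_commutator_of_normalizer A R K hAR hAK
    have hRK : ⁅R, K⁆ = R := by
      by_contra hne
      have hlt : ⁅R, K⁆ < R := lt_of_le_of_ne hR1le hne
      have h1 := hIH _ hlt hR1A hR1K
      apply hcon
      intro k hk
      rw [Subgroup.mem_centralizer_iff]
      intro r hr
      have hcop : (Nat.card K).Coprime (Nat.card R) := by
        obtain ⟨e, he⟩ := hR.exists_card_eq
        rw [he]; exact Nat.Coprime.pow_right e hK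
      have hsolv : Group.IsSolvable K ∨ Group.IsSolvable R := by
        right
        haveI := hR.isNilpotent
        infer_instance
      obtain ⟨y, hy, c, hc, hrc⟩ :=
        Cfsg.Agent.Lib.Lead.coprime_commutator_decomp K R hKR hcop hsolv r hr
      have hky : y * k = k * y := by
        have h2 := h1 hk
        rw [Subgroup.mem_centralizer_iff] at h2
        exact h2 y hy
      have hkc : c * k = k * c := by
        have h2 : c ∈ Subgroup.centralizer (K : Set X) := hc.2
        rw [Subgroup.mem_centralizer_iff] at h2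
        exact (h2 k hk).symm
      calc r * k = y * (c * k) := by rw [hrc]; group
        _ = y * (k * c) := by rw [hkc]
        _ = (y * k) * c := by group
        _ = (k * y) * c := by rw [hky]
        _ = k * r := by rw [hrc]; group
    obtain ⟨C, hCdef⟩ : ∃ C : Subgroup X, C = R ⊓ Subgroup.centralizer (K : Set X) := ⟨_, rfl⟩
    have hCR : C ≤ R := by rw [hCdef]; exact inf_le_left
    have hCK : ∀ c ∈ C, ∀ k ∈ K, k * c = c * k := by
      intro c hc k hk
      rw [hCdef] at hc
      have h2 : c ∈ Subgroup.centralizer (K : Set X) := hc.2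
      rw [Subgroup.mem_centralizer_iff] at h2
      exact h2 k hk
    have hCmem : ∀ r ∈ R, (∀ k ∈ K, k * r = r * k) → r ∈ C := by
      intro r hr h
      rw [hCdef]
      exact ⟨hr, Subgroup.mem_centralizer_iff.mpr h⟩
    have hRne : R ≠ ⊥ := by
      rintro rfl
      apply hcon
      intro k hk
      rw [Subgroup.mem_centralizer_iff]
      intro r hr
      rw [Subgroup.mem_bot.mp hr]; simp
    have hR'lt : ⁅R, R⁆ < R := by
      haveI : Nontrivial ↥R := (Subgroup.nontrivial_iff_ne_bot R).mpr hRne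
      haveI := hR.isNilpotent
      have h1 : commutator ↥R < ⊤ := IsSolvable.commutator_lt_top_of_nontrivial ↥R
      rw [← Subgroup.map_subtype_commutator]
      refine lt_of_le_of_ne ?_ ?_
      · intro y hy
        obtain ⟨y', _, rfl⟩ := hy
        exact y'.2
      · intro heq
        apply h1.ne
        rw [eq_top_iff]
        intro y _
        have h2 : (y : X) ∈ (commutator ↥R).map R.subtype := by rw [heq]; exact y.2
        obtain ⟨y', hy', hyy'⟩ := h2
        have h3 : y' = y := Subtype.ext hyy'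
        rw [← h3]; exact hy'
    have hR'A : A ≤ Subgroup.normalizer ((⁅R, R⁆ : Subgroup X) : Set X) :=
      normalizer_commutator_of_normalizer A R R hAR hAR
    have hR'K : K ≤ Subgroup.normalizer ((⁅R, R⁆ : Subgroup X) : Set X) :=
      normalizer_commutator_of_normalizer K R R hKR hKR
    have hR'C : ⁅R, R⁆ ≤ C := by
      have h1 := hIH _ hR'lt hR'A hR'K
      intro y hy
      apply hCmem y (hR'lt.le hy)
      intro k hk
      have h2 := h1 hk
      rw [Subgroup.mem_centralizer_iff] at h2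
      exact (h2 y hy).symm
    have hRC : ⁅R, C⁆ = ⊥ := by
      have h1 : ⁅⁅K, C⁆, R⁆ = ⊥ := by
        have h0 : ⁅K, C⁆ = ⊥ := by
          rw [Subgroup.commutator_eq_bot_iff_le_centralizer]
          intro k hk
          rw [Subgroup.mem_centralizer_iff]
          intro c hc
          exact (hCK c hc k hk).symm
        rw [h0]; exact Subgroup.commutator_bot_left R
      have h2 : ⁅⁅C, R⁆, K⁆ = ⊥ := by
        rw [Subgroup.commutator_eq_bot_iff_le_centralizer]
        intro y hy
        have hyC : y ∈ C := hR'C (Subgroup.commutator_mono hCR le_rfl hy)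
        rw [Subgroup.mem_centralizer_iff]
        intro k hk
        exact hCK y hyC k hk
      have h3 : ⁅⁅R, K⁆, C⁆ = ⊥ := Subgroup.commutator_commutator_eq_bot_of_rotate h1 h2
      rw [hRK] at h3; exact h3
    have hCZ : ∀ c ∈ C, ∀ r ∈ R, c * r = r * c := by
      intro c hc r hr
      rw [Subgroup.commutator_eq_bot_iff_le_centralizer] at hRC
      have h2 := hRC hr
      rw [Subgroup.mem_centralizer_iff] at h2
      exact h2 c hc
    have hcomm : ∀ u ∈ R, ∀ v ∈ R, u * v * u⁻¹ * v⁻¹ ∈ C :=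
      fun u hu v hv => hR'C (Subgroup.commutator_mem_commutator hu hv)
    have hCne : C ≠ R := by
      intro h
      apply hcon
      intro k hk
      rw [Subgroup.mem_centralizer_iff]
      intro r hr
      have hrC : r ∈ C := by rw [h]; exact hr
      exact (hCK r hrC k hk).symm
    -- the p-group T = A ⊔ R
    have hTp : IsPGroup p (A ⊔ R : Subgroup X) := IsPGroup.to_sup_of_normal_right' hA hR hAR
    have hAC : A ≤ Subgroup.normalizer (C : Set X) := by
      apply Cfsg.Agent.Lib.Lead.le_normalizer_of_conj_mem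
      intro a ha c hc
      apply hCmem _ (hARel a ha c (hCR hc))
      intro k hk
      have hk' : a⁻¹ * k * a ∈ K := by
        have := hAKel a⁻¹ (A.inv_mem ha) k hk
        rw [inv_inv] at this; exact this
      have h1 := hCK c hc _ hk'
      calc k * (a * c * a⁻¹) = a * ((a⁻¹ * k * a) * c) * a⁻¹ := by group
        _ = a * (c * (a⁻¹ * k * a)) * a⁻¹ := by rw [h1]
        _ = a * c * a⁻¹ * k := by group
    have hRCn : R ≤ Subgroup.normalizer (C : Set X) := by
      apply Cfsg.Agent.Lib.Lead.le_normalizer_of_conj_mem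
      intro r hr c hc
      have h1 := hCZ c hc r hr
      have h2 : r * c * r⁻¹ = c := by
        calc r * c * r⁻¹ = (c * r) * r⁻¹ := by rw [h1]
          _ = c := by group
      rw [h2]; exact hc
    obtain ⟨x, hxR, hxC, hxT⟩ := exists_central_mod (A ⊔ R) R C hTp le_sup_right hCR hCne
      (sup_le hAR Subgroup.le_normalizer) (sup_le hAC hRCn)
    obtain ⟨w, hwC, hw⟩ := pq_act_key hp2 A K R C hK hR hAKel hKRel hCR hCmem hCK hCZ hcomm x hxR
      (fun a ha => hxT a (Subgroup.mem_sup_left ha))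
    have hx1R : x * w⁻¹ ∈ R := R.mul_mem hxR (R.inv_mem (hCR hwC))
    have hx1A : x * w⁻¹ ∈ Subgroup.centralizer (A : Set X) := by
      rw [Subgroup.mem_centralizer_iff]
      intro a ha
      have h1 := hw a ha
      calc a * (x * w⁻¹) = a * (x * w⁻¹) * a⁻¹ * a := by group
        _ = x * w⁻¹ * a := by rw [h1]
    have hx1K : x * w⁻¹ ∈ Subgroup.centralizer (K : Set X) := hC ⟨hx1R, hx1A⟩
    have hx1C : x * w⁻¹ ∈ C := by
      apply hCmem _ hx1R
      intro k hk
      rw [Subgroup.mem_centralizer_iff] at hx1K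
      exact hx1K k hk
    apply hxC
    have h5 : x = (x * w⁻¹) * w := by group
    rw [h5]
    exact C.mul_mem hx1C hwC

end Cfsg.Agent.Lib.Helper2
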