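import Mathlib
import Cfsg.Prelude
import Cfsg.Agent.Lib.Helper2.PConstr
import Cfsg.Agent.Lib.Helper2.PQAct2
import Cfsg.Agent.Lib.Helper1.ThompsonJ
import Cfsg.Agent.S1443

set_option autoImplicit false

namespace Cfsg.Agent.Lib.Helper2

universe u

open scoped commutatorElement

/-- In a `p`-constrained group, `O_p(X / O_{p'}(X))` contains its centralizer. -/
theorem pConstrained_centralizer_pCore_le {X : Type u} [Group X] [Finite X] (p : ℕ)
    [hp : Fact p.Prime] (hcon : Cfsg.IsPConstrained p X) :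
    Subgroup.centralizer
        ((Cfsg.pCore p (X ⧸ Cfsg.pPrimeCore p X) : Subgroup _) : Set _) ≤
        Cfsg.pCore p (X ⧸ Cfsg.pPrimeCore p X) := by
  obtain ⟨P⟩ : Nonempty (Sylow p ↥(Cfsg.pPrimePCore p X)) := inferInstance
  have hPimg := sylow_pPrimePCore_map p P
  have hPGp : IsPGroup p ↥((P : Subgroup ↥(Cfsg.pPrimePCore p X)).map
      (Cfsg.pPrimePCore p X).subtype) := P.2.map _
  -- the centralizer of O_p(X/O) lies in O_p(X/O)
  have hcent : Subgroup.centralizer
      ((Cfsg.pCore p (X ⧸ Cfsg.pPrimeCore p X) : Subgroup _) : Set _) ≤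
      Cfsg.pCore p (X ⧸ Cfsg.pPrimeCore p X) := by
    intro cb hcb
    obtain ⟨c, rfl⟩ := QuotientGroup.mk'_surjective _ cb
    have hcN : QuotientGroup.mk' (Cfsg.pPrimeCore p X) c ∈ Subgroup.normalizer
        ((((P : Subgroup ↥(Cfsg.pPrimePCore p X)).map (Cfsg.pPrimePCore p X).subtype).map
          (QuotientGroup.mk' (Cfsg.pPrimeCore p X)) : Subgroup _) : Set _) := by
      rw [hPimg]
      exact Subgroup.centralizer_le_normalizer _ hcb
    obtain ⟨n, hn, hy⟩ := exists_mem_normalizer_of_quotient p (Cfsg.pPrimeCore p X)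
      (pPrimeCore_card_coprime p X) _ hPGp c hcN
    have hn1 : QuotientGroup.mk' (Cfsg.pPrimeCore p X) n = 1 := (QuotientGroup.eq_one_iff n).mpr hn
    have hyc : QuotientGroup.mk' (Cfsg.pPrimeCore p X) (n⁻¹ * c) =
        QuotientGroup.mk' (Cfsg.pPrimeCore p X) c := by
      rw [map_mul, map_inv, hn1, inv_one, one_mul]
    have hycent : n⁻¹ * c ∈ Subgroup.centralizer
        ((((P : Subgroup ↥(Cfsg.pPrimePCore p X)).map (Cfsg.pPrimePCore p X).subtype) :
          Subgroup X) : Set X) := by
      rw [Subgroup.mem_centralizer_iff]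
      intro x hx
      have hconj : (n⁻¹ * c) * x * (n⁻¹ * c)⁻¹ ∈
          (P : Subgroup ↥(Cfsg.pPrimePCore p X)).map (Cfsg.pPrimePCore p X).subtype :=
        (Subgroup.mem_normalizer_iff.mp hy x).mp hx
      have hmem : (n⁻¹ * c) * x * (n⁻¹ * c)⁻¹ * x⁻¹ ∈
          (P : Subgroup ↥(Cfsg.pPrimePCore p X)).map (Cfsg.pPrimePCore p X).subtype :=
        Subgroup.mul_mem _ hconj (Subgroup.inv_mem _ hx)
      have hxb : QuotientGroup.mk' (Cfsg.pPrimeCore p X) x ∈
          Cfsg.pCore p (X ⧸ Cfsg.pPrimeCore p X) := by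
        rw [← hPimg]; exact ⟨x, hx, rfl⟩
      have hcomm := Subgroup.mem_centralizer_iff.mp hcb _ hxb
      have hO : (n⁻¹ * c) * x * (n⁻¹ * c)⁻¹ * x⁻¹ ∈ Cfsg.pPrimeCore p X := by
        rw [← QuotientGroup.ker_mk' (Cfsg.pPrimeCore p X), MonoidHom.mem_ker]
        rw [map_mul, map_mul, map_mul, map_inv, map_inv, hyc, ← hcomm]
        group
      obtain ⟨k, hk⟩ := hPGp ⟨_, hmem⟩
      have hk' : ((n⁻¹ * c) * x * (n⁻¹ * c)⁻¹ * x⁻¹) ^ (p ^ k) = 1 := congrArg Subtype.val hk
      have h1 := eq_one_of_mem_of_pow_prime_pow p _ (pPrimeCore_card_coprime p X) _ hO k hk'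
      calc x * (n⁻¹ * c) = ((n⁻¹ * c) * x * (n⁻¹ * c)⁻¹ * x⁻¹)⁻¹ * ((n⁻¹ * c) * x) := by group
        _ = (n⁻¹ * c) * x := by rw [h1, inv_one, one_mul]
    have hyM : n⁻¹ * c ∈ Cfsg.pPrimePCore p X := hcon P hycent
    have : QuotientGroup.mk' (Cfsg.pPrimeCore p X) (n⁻¹ * c) ∈
        Cfsg.pCore p (X ⧸ Cfsg.pPrimeCore p X) := hyM
    rw [hyc] at this
    exact this
  exact hcent

/-- In class two with central commutator, elements of order dividing an odd prime `p` multiply to
elements of order dividing `p`. -/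
theorem mul_pow_prime_of_comm_central {X : Type*} [Group X] {p : ℕ} (hp : p.Prime) (hp2 : p ≠ 2)
    (u v : X) (hu : u ^ p = 1) (hv : v ^ p = 1)
    (hzu : (v⁻¹ * u⁻¹ * v * u) * u = u * (v⁻¹ * u⁻¹ * v * u))
    (hzv : (v⁻¹ * u⁻¹ * v * u) * v = v * (v⁻¹ * u⁻¹ * v * u)) :
    (u * v) ^ p = 1 := by
  obtain ⟨z, hzdef⟩ : ∃ z : X, z = v⁻¹ * u⁻¹ * v * u := ⟨_, rfl⟩
  rw [← hzdef] at hzu hzv
  have hcu : Commute z u := hzu
  have hcv : Commute z v := hzv
  have hvu : v * u = u * v * z := by rw [hzdef]; group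
  have claim1 : ∀ j : ℕ, v ^ j * u = u * v ^ j * z ^ j := by
    intro j
    induction j with
    | zero => simp
    | succ j ih =>
      calc v ^ (j + 1) * u = v ^ j * (v * u) := by rw [pow_succ, mul_assoc]
        _ = v ^ j * (u * v * z) := by rw [hvu]
        _ = (v ^ j * u) * (v * z) := by simp only [mul_assoc]
        _ = (u * v ^ j * z ^ j) * (v * z) := by rw [ih]
        _ = u * v ^ j * (z ^ j * v) * z := by simp only [mul_assoc]
        _ = u * v ^ j * (v * z ^ j) * z := by rw [(hcv.pow_left j).eq]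
        _ = u * (v ^ j * v) * (z ^ j * z) := by simp only [mul_assoc]
        _ = u * v ^ (j + 1) * z ^ (j + 1) := by rw [← pow_succ, ← pow_succ]
  have claim2 : ∀ n : ℕ, (u * v) ^ n = u ^ n * v ^ n * z ^ (∑ i ∈ Finset.range n, i) := by
    intro n
    induction n with
    | zero => simp
    | succ n ih =>
      obtain ⟨T, hT⟩ : ∃ T : ℕ, T = ∑ i ∈ Finset.range n, i := ⟨_, rfl⟩
      have hT' : ∑ i ∈ Finset.range (n + 1), i = n + T := by
        rw [Finset.sum_range_succ, ← hT, add_comm]
      rw [← hT] at ih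
      rw [hT']
      calc (u * v) ^ (n + 1) = (u * v) ^ n * (u * v) := pow_succ _ _
        _ = (u ^ n * v ^ n * z ^ T) * (u * v) := by rw [ih]
        _ = u ^ n * v ^ n * (z ^ T * u) * v := by simp only [mul_assoc]
        _ = u ^ n * v ^ n * (u * z ^ T) * v := by rw [(hcu.pow_left T).eq]
        _ = u ^ n * (v ^ n * u) * (z ^ T * v) := by simp only [mul_assoc]
        _ = u ^ n * (u * v ^ n * z ^ n) * (v * z ^ T) := by rw [claim1 n, (hcv.pow_left T).eq]
        _ = (u ^ n * u) * v ^ n * (z ^ n * v) * z ^ T := by simp only [mul_assoc]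
        _ = (u ^ n * u) * v ^ n * (v * z ^ n) * z ^ T := by rw [(hcv.pow_left n).eq]
        _ = (u ^ n * u) * (v ^ n * v) * (z ^ n * z ^ T) := by simp only [mul_assoc]
        _ = u ^ (n + 1) * v ^ (n + 1) * z ^ (n + T) := by rw [← pow_succ, ← pow_succ, ← pow_add]
  have hzp : z ^ p = 1 := by
    have h1 := claim1 p
    rw [hv, one_mul, mul_one] at h1
    have h2 : u * z ^ p = u * 1 := by rw [mul_one]; exact h1.symm
    exact mul_left_cancel h2
  have hodd : Odd p := hp.odd_of_ne_two hp2
  obtain ⟨k, hk⟩ := hodd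
  have hsum : ∑ i ∈ Finset.range p, i = p * k := by
    have h1 := Finset.sum_range_id_mul_two p
    have h2 : p - 1 = 2 * k := by omega
    rw [h2] at h1
    have h3 : (∑ i ∈ Finset.range p, i) * 2 = (p * k) * 2 := by rw [h1]; ring
    exact Nat.eq_of_mul_eq_mul_right (by norm_num) h3
  rw [claim2 p, hu, hv, hsum, pow_mul, hzp, one_pow, one_mul, one_mul]

theorem pq_act_order_p {Γ : Type*} [Group Γ] [Finite Γ] {p : ℕ} [Fact p.Prime] (hp2 : p ≠ 2)
    (A K : Subgroup Γ) (hA : IsPGroup p A) (hK : (Nat.card K).Coprime p)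
    (hAK : A ≤ Subgroup.normalizer (K : Set Γ)) :
    ∀ (n : ℕ) (R : Subgroup Γ), Nat.card R ≤ n → IsPGroup p R →
      A ≤ Subgroup.normalizer (R : Set Γ) → K ≤ Subgroup.normalizer (R : Set Γ) →
      (∀ y ∈ R ⊓ Subgroup.centralizer (A : Set Γ), orderOf y = p →
        y ∈ Subgroup.centralizer (K : Set Γ)) →
      K ≤ Subgroup.centralizer (R : Set Γ) := by
  have hp : p.Prime := Fact.out
  intro n
  induction n with
  | zero =>
    intro R hn
    exfalso
    have := Nat.card_pos (α := R)
    omega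
  | succ n ih =>
    intro R hn hR hAR hKR hord
    by_contra hcon
    have hIH : ∀ R' : Subgroup Γ, R' < R → A ≤ Subgroup.normalizer (R' : Set Γ) →
        K ≤ Subgroup.normalizer (R' : Set Γ) → K ≤ Subgroup.centralizer (R' : Set Γ) := by
      intro R' hlt hAR' hKR'
      have hcard : Nat.card R' < Nat.card R :=
        Nat.lt_of_le_of_ne (Subgroup.card_le_of_le hlt.le)
          (fun h => hlt.ne (Subgroup.eq_of_le_of_card_ge hlt.le h.ge))
      exact ih R' (by omega) (hR.to_le hlt.le) hAR' hKR'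
        (fun y hy hyp => hord y ⟨hlt.le hy.1, hy.2⟩ hyp)
    have hR1le : ⁅R, K⁆ ≤ R := Cfsg.Agent.Lib.Lead.commutator_le_of_le_normalizer R K hKR
    have hR1K : K ≤ Subgroup.normalizer ((⁅R, K⁆ : Subgroup Γ) : Set Γ) :=
      normalizer_commutator_of_normalizer K R K hKR Subgroup.le_normalizer
    have hR1A : A ≤ Subgroup.normalizer ((⁅R, K⁆ : Subgroup Γ) : Set Γ) :=
      normalizer_commutator_of_normalizer A R K hAR hAK
    have hRK : ⁅R, K⁆ = R := by
      by_contra hne
      have hlt : ⁅R, K⁆ < R := lt_of_le_of_ne hR1le hne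
      have h1 := hIH _ hlt hR1A hR1K
      apply hcon
      intro k hk
      rw [Subgroup.mem_centralizer_iff]
      intro r hr
      have hcop : (Nat.card K).Coprime (Nat.card R) := by
        obtain ⟨e, he⟩ := hR.exists_card_eq
        rw [he]; exact Nat.Coprime.pow_right e hK
      have hsolv : Group.IsSolvable K ∨ Group.IsSolvable R := by
        right
        haveI := hR.isNilpotent
        infer_instance
      obtain ⟨y, hy, c, hc, hrc⟩ :=
        Cfsg.Agent.Lib.Lead.coprime_commutator_decomp K R hKR hcop hsolv r hr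
      have hky : y * k = k * y := by
        have h2 := h1 hk
        rw [Subgroup.mem_centralizer_iff] at h2
        exact h2 y hy
      have hkc : c * k = k * c := by
        have h2 : c ∈ Subgroup.centralizer (K : Set Γ) := hc.2
        rw [Subgroup.mem_centralizer_iff] at h2
        exact (h2 k hk).symm
      calc r * k = y * (c * k) := by rw [hrc]; group
        _ = y * (k * c) := by rw [hkc]
        _ = (y * k) * c := by group
        _ = (k * y) * c := by rw [hky]
        _ = k * r := by rw [hrc]; group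
    obtain ⟨C, hCdef⟩ : ∃ C : Subgroup Γ, C = R ⊓ Subgroup.centralizer (K : Set Γ) := ⟨_, rfl⟩
    have hCR : C ≤ R := by rw [hCdef]; exact inf_le_left
    have hCK : ∀ c ∈ C, ∀ k ∈ K, k * c = c * k := by
      intro c hc k hk
      rw [hCdef] at hc
      have h2 : c ∈ Subgroup.centralizer (K : Set Γ) := hc.2
      rw [Subgroup.mem_centralizer_iff] at h2
      exact h2 k hk
    have hCmem : ∀ r ∈ R, (∀ k ∈ K, k * r = r * k) → r ∈ C := by
      intro r hr h
      rw [hCdef]
      exact ⟨hr, Subgroup.mem_centralizer_iff.mpr h⟩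
    have hRne : R ≠ ⊥ := by
      rintro rfl
      apply hcon
      intro k hk
      rw [Subgroup.mem_centralizer_iff]
      intro r hr
      rw [Subgroup.mem_bot.mp hr]; simp
    have hR'lt : ⁅R, R⁆ < R := by
      haveI : Nontrivial ↥R := (Subgroup.nontrivial_iff_ne_bot R).mpr hRne
      haveI := hR.isNilpotent
      have h1 : commutator ↥R < ⊤ := IsSolvable.commutator_lt_top_of_nontrivial ↥R
      rw [← Subgroup.map_subtype_commutator]
      refine lt_of_le_of_ne ?_ ?_
      · intro y hy
        obtain ⟨y', _, rfl⟩ := hy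
        exact y'.2
      · intro heq
        apply h1.ne
        rw [eq_top_iff]
        intro y _
        have h2 : (y : Γ) ∈ (commutator ↥R).map R.subtype := by rw [heq]; exact y.2
        obtain ⟨y', hy', hyy'⟩ := h2
        have h3 : y' = y := Subtype.ext hyy'
        rw [← h3]; exact hy'
    have hR'A : A ≤ Subgroup.normalizer ((⁅R, R⁆ : Subgroup Γ) : Set Γ) :=
      normalizer_commutator_of_normalizer A R R hAR hAR
    have hR'K : K ≤ Subgroup.normalizer ((⁅R, R⁆ : Subgroup Γ) : Set Γ) :=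
      normalizer_commutator_of_normalizer K R R hKR hKR
    have hR'C : ⁅R, R⁆ ≤ C := by
      have h1 := hIH _ hR'lt hR'A hR'K
      intro y hy
      apply hCmem y (hR'lt.le hy)
      intro k hk
      have h2 := h1 hk
      rw [Subgroup.mem_centralizer_iff] at h2
      exact (h2 y hy).symm
    have hRC : ⁅R, C⁆ = ⊥ := by
      have h1 : ⁅⁅K, C⁆, R⁆ = ⊥ := by
        have h0 : ⁅K, C⁆ = ⊥ := by
          rw [Subgroup.commutator_eq_bot_iff_le_centralizer]
          intro k hk
          rw [Subgroup.mem_centralizer_iff]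
          intro c hc
          exact (hCK c hc k hk).symm
        rw [h0]; exact Subgroup.commutator_bot_left R
      have h2 : ⁅⁅C, R⁆, K⁆ = ⊥ := by
        rw [Subgroup.commutator_eq_bot_iff_le_centralizer]
        intro y hy
        have hyC : y ∈ C := hR'C (Subgroup.commutator_mono hCR le_rfl hy)
        rw [Subgroup.mem_centralizer_iff]
        intro k hk
        exact hCK y hyC k hk
      have h3 : ⁅⁅R, K⁆, C⁆ = ⊥ := Subgroup.commutator_commutator_eq_bot_of_rotate h1 h2
      rw [hRK] at h3; exact h3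
    have hCZ : ∀ c ∈ C, ∀ r ∈ R, c * r = r * c := by
      intro c hc r hr
      rw [Subgroup.commutator_eq_bot_iff_le_centralizer] at hRC
      have h2 := hRC hr
      rw [Subgroup.mem_centralizer_iff] at h2
      exact h2 c hc
    have hcomm : ∀ u ∈ R, ∀ v ∈ R, u * v * u⁻¹ * v⁻¹ ∈ C :=
      fun u hu v hv => hR'C (Subgroup.commutator_mem_commutator hu hv)
    -- the subgroup generated by the elements of order dividing p
    obtain ⟨Ω, hΩdef⟩ : ∃ Ω : Subgroup Γ,
        Ω = Subgroup.closure {x : Γ | x ∈ R ∧ x ^ p = 1} := ⟨_, rfl⟩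
    have hΩR : Ω ≤ R := by
      rw [hΩdef, Subgroup.closure_le]
      intro x hx; exact hx.1
    have hΩinv : ∀ (B : Subgroup Γ), B ≤ Subgroup.normalizer (R : Set Γ) →
        B ≤ Subgroup.normalizer (Ω : Set Γ) := by
      intro B hB
      apply Cfsg.Agent.Lib.Lead.le_normalizer_of_conj_mem
      intro b hb y hy
      rw [hΩdef] at hy ⊢
      apply Cfsg.Agent.Lib.Lead.conj_mem_closure _ b _ y hy
      rintro s ⟨hsR, hsp⟩
      apply Subgroup.subset_closure
      refine ⟨Cfsg.Agent.Lib.Lead.conj_mem_of_mem_normalizer (hB hb) hsR, ?_⟩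
      rw [conj_pow, hsp]; group
    have hbotEA : Cfsg.IsElementaryAbelian p (⊥ : Subgroup Γ) := by
      apply Cfsg.Agent.Lib.Helper1.ea_of_comm
      · intro a ha b hb
        rw [Subgroup.mem_bot] at ha hb
        rw [ha, hb]
      · intro a ha
        rw [Subgroup.mem_bot] at ha
        rw [ha, one_pow]
    have hΩeq : Ω = R := by
      by_contra hne
      have hlt : Ω < R := lt_of_le_of_ne hΩR hne
      have h1 := hIH _ hlt (hΩinv A hAR) (hΩinv K hKR)
      apply hcon
      apply Cfsg.Agent.S1443.result p hp2 R ⊥ K hR bot_le hbotEA hKR hK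
      intro x hx hxp
      have hxR : x ∈ R := hx.1
      have hxΩ : x ∈ Ω := by
        rw [hΩdef]; apply Subgroup.subset_closure
        refine ⟨hxR, ?_⟩
        have h2 := pow_orderOf_eq_one x
        rw [hxp] at h2
        exact h2
      intro k hk
      rw [Subgroup.mem_centralizer_iff]
      intro y hy
      rw [Set.mem_singleton_iff] at hy
      rw [hy]
      have h2 := h1 hk
      rw [Subgroup.mem_centralizer_iff] at h2
      exact h2 x hxΩ
    have hRcl : ∀ x ∈ R, x ∈ Subgroup.closure {x : Γ | x ∈ R ∧ x ^ p = 1} := by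
      intro x hx
      rw [← hΩdef, hΩeq]; exact hx
    have hexp : ∀ x ∈ R, x ^ p = 1 := by
      intro x hx
      have hx' := hRcl x hx
      induction hx' using Subgroup.closure_induction with
      | mem y hy => exact hy.2
      | one => exact one_pow p
      | mul u v hu hv ihu ihv =>
        have huR : u ∈ R := by rw [← hΩeq, hΩdef]; exact hu
        have hvR : v ∈ R := by rw [← hΩeq, hΩdef]; exact hv
        have hz : v⁻¹ * u⁻¹ * v * u ∈ C := by
          have h1 := hcomm v⁻¹ (R.inv_mem hvR) u⁻¹ (R.inv_mem huR)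
          rw [inv_inv, inv_inv] at h1
          exact h1
        exact mul_pow_prime_of_comm_central hp hp2 u v (ihu huR) (ihv hvR)
          (hCZ _ hz u huR) (hCZ _ hz v hvR)
      | inv u hu ihu =>
        have huR : u ∈ R := by rw [← hΩeq, hΩdef]; exact hu
        rw [inv_pow, ihu huR, inv_one]
    have hCA : R ⊓ Subgroup.centralizer (A : Set Γ) ≤ Subgroup.centralizer (K : Set Γ) := by
      intro y hy
      by_cases hy1 : y = 1
      · rw [hy1]; exact Subgroup.one_mem _
      · exact hord y hy (orderOf_eq_prime (hexp y hy.1) hy1)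
    exact hcon (pq_act_main hp2 A K hA hK hAK (Nat.card R) R le_rfl hR hAR hKR hCA)

end Cfsg.Agent.Lib.Helper2
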