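import Mathlib
import Cfsg.Prelude
import Cfsg.Agent.Lib.Helper2.PConstrInv

set_option autoImplicit false

namespace Cfsg.Agent.Lib.Helper2

universe u

/-- Lifting the hypothesis on elements of order `p` in the centralizer of `A` to the quotient by a
normal subgroup of order prime to `p`. -/
theorem lift_order_p_centralizer {X : Type u} [Group X] [Finite X] (p : ℕ) [Fact p.Prime]
    (O : Subgroup X) [O.Normal] (hOc : (Nat.card O).Coprime p)
    (A : Subgroup X) (hAp : IsPGroup p ↥A)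
    (hΩ : ∀ x ∈ Subgroup.centralizer (A : Set X), orderOf x = p → x ∈ A)
    (yb : X ⧸ O)
    (hyb : yb ∈ Subgroup.centralizer ((A.map (QuotientGroup.mk' O) : Subgroup (X ⧸ O)) : Set (X ⧸ O)))
    (hybp : orderOf yb = p) : yb ∈ A.map (QuotientGroup.mk' O) := by
  have hpp : p.Prime := Fact.out
  obtain ⟨π, hπdef⟩ : ∃ π : X →* X ⧸ O, π = QuotientGroup.mk' O := ⟨_, rfl⟩
  rw [← hπdef] at hyb ⊢
  have hπ1 : ∀ g, π g = 1 ↔ g ∈ O := by
    intro g; rw [hπdef]; exact QuotientGroup.eq_one_iff g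
  have hπs : Function.Surjective π := by rw [hπdef]; exact QuotientGroup.mk'_surjective O
  have hybpow : yb ^ p = 1 := by
    have h := pow_orderOf_eq_one yb
    rw [hybp] at h
    exact h
  obtain ⟨y₁, hy₁π, hy₁A⟩ : ∃ y₁ : X, π y₁ = yb ∧ ∀ a ∈ A, a * y₁ * a⁻¹ = y₁ := by
    obtain ⟨y₀, hy₀⟩ := hπs yb
    have hconjF : ∀ (a : ↥A) (y : {y : X // π y = yb}), π ((a : X) * y.1 * (a : X)⁻¹) = yb := by
      intro a y
      rw [map_mul, map_mul, map_inv, y.2]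
      have h1 : π (a : X) ∈ A.map π := Subgroup.mem_map_of_mem π a.2
      have h2 := (Subgroup.mem_centralizer_iff.mp hyb) _ h1
      rw [h2]; group
    letI : MulAction ↥A {y : X // π y = yb} :=
      { smul := fun a y => ⟨(a : X) * y.1 * (a : X)⁻¹, hconjF a y⟩
        one_smul := fun y => Subtype.ext (by
          show ((1 : ↥A) : X) * y.1 * ((1 : ↥A) : X)⁻¹ = y.1
          rw [Subgroup.coe_one]; group)
        mul_smul := fun a b y => Subtype.ext (by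
          show ((a * b : ↥A) : X) * y.1 * ((a * b : ↥A) : X)⁻¹
            = (a : X) * ((b : X) * y.1 * (b : X)⁻¹) * (a : X)⁻¹
          rw [Subgroup.coe_mul]; group) }
    have hcardF : Nat.card {y : X // π y = yb} = Nat.card O := by
      apply Nat.card_congr
      exact
        { toFun := fun y => ⟨y₀⁻¹ * y.1, by
            rw [← hπ1, map_mul, map_inv, hy₀, y.2, inv_mul_cancel]⟩
          invFun := fun o => ⟨y₀ * o.1, by rw [map_mul, hy₀, (hπ1 o.1).mpr o.2, mul_one]⟩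
          left_inv := fun y => Subtype.ext (by simp)
          right_inv := fun o => Subtype.ext (by simp) }
    have hnd : ¬ p ∣ Nat.card {y : X // π y = yb} := by
      rw [hcardF]; exact (Nat.Prime.coprime_iff_not_dvd hpp).mp hOc.symm
    obtain ⟨y₁, hy₁⟩ := hAp.nonempty_fixed_point_of_prime_not_dvd_card {y : X // π y = yb} hnd
    refine ⟨y₁.1, y₁.2, ?_⟩
    intro a ha
    have h1 := hy₁ ⟨a, ha⟩
    exact congrArg Subtype.val h1
  obtain ⟨r, hrdef⟩ : ∃ r : ℕ, r = Nat.card O := ⟨_, rfl⟩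
  have hrp : r.Coprime p := by rw [hrdef]; exact hOc
  obtain ⟨r', -, hr'⟩ := Nat.exists_mul_mod_eq_one_of_coprime hrp hpp.one_lt
  obtain ⟨y₂, hy₂def⟩ : ∃ y₂ : X, y₂ = y₁ ^ (r * r') := ⟨_, rfl⟩
  have hy₁p : y₁ ^ p ∈ O := by
    rw [← hπ1, map_pow, hy₁π]; exact hybpow
  have h1 : (y₁ ^ p) ^ r = 1 := by
    rw [hrdef]
    exact congrArg Subtype.val (pow_card_eq_one' (G := ↥O) (x := ⟨y₁ ^ p, hy₁p⟩))
  have hy₂p : y₂ ^ p = 1 := by
    calc y₂ ^ p = ((y₁ ^ p) ^ r) ^ r' := by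
          rw [hy₂def, ← pow_mul, ← pow_mul, ← pow_mul]; congr 1; ring
      _ = 1 := by rw [h1, one_pow]
  have hy₂π : π y₂ = yb := by
    rw [hy₂def, map_pow, hy₁π]
    calc yb ^ (r * r') = yb ^ (p * (r * r' / p) + r * r' % p) := by rw [Nat.div_add_mod]
      _ = yb := by rw [pow_add, pow_mul, hybpow, one_pow, one_mul, hr', pow_one]
  have hyb1 : yb ≠ 1 := by
    intro h
    rw [h, orderOf_one] at hybp
    exact hpp.one_lt.ne hybp
  have hy₂1 : y₂ ≠ 1 := by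
    intro h; apply hyb1; rw [← hy₂π, h, map_one]
  have hy₂ord : orderOf y₂ = p := orderOf_eq_prime hy₂p hy₂1
  have hy₂A : y₂ ∈ Subgroup.centralizer (A : Set X) := by
    rw [Subgroup.mem_centralizer_iff]
    intro a ha
    have h3 := hy₁A a ha
    have h2 : a * y₂ * a⁻¹ = y₂ := by rw [hy₂def, ← conj_pow, h3]
    calc a * y₂ = a * y₂ * a⁻¹ * a := by group
      _ = y₂ * a := by rw [h2]
  have h5 := hΩ y₂ hy₂A hy₂ord
  rw [← hy₂π]
  exact Subgroup.mem_map_of_mem π h5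

theorem pconstr_inv_main {X : Type u} [Group X] [Finite X] (p : ℕ) [Fact p.Prime] (hp : p ≠ 2)
    (hX : Cfsg.IsPConstrained p X) (A : Subgroup X) (hAp : IsPGroup p ↥A)
    (hΩ : ∀ x ∈ Subgroup.centralizer (A : Set X), orderOf x = p → x ∈ A) (Q : Subgroup X)
    (hQ : ¬ p ∣ Nat.card ↥Q) (hAQ : A ≤ Subgroup.normalizer (Q : Set X)) :
    Q ≤ Cfsg.pPrimeCore p X := by
  have hpp : p.Prime := Fact.out
  have hOc : (Nat.card (Cfsg.pPrimeCore p X)).Coprime p := pPrimeCore_card_coprime p X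
  have hΩb := lift_order_p_centralizer p (Cfsg.pPrimeCore p X) hOc A hAp hΩ
  obtain ⟨π, hπdef⟩ : ∃ π : X →* X ⧸ Cfsg.pPrimeCore p X,
      π = QuotientGroup.mk' (Cfsg.pPrimeCore p X) := ⟨_, rfl⟩
  rw [← hπdef] at hΩb
  have hπ1 : ∀ g, π g = 1 ↔ g ∈ Cfsg.pPrimeCore p X := by
    intro g; rw [hπdef]; exact QuotientGroup.eq_one_iff g
  obtain ⟨Pb, hPbdef⟩ : ∃ Pb : Subgroup (X ⧸ Cfsg.pPrimeCore p X),
      Pb = Cfsg.pCore p (X ⧸ Cfsg.pPrimeCore p X) := ⟨_, rfl⟩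
  have hPbp : IsPGroup p Pb := by rw [hPbdef]; exact pCore_isPGroup' p _
  have hPbn : Pb.Normal := by rw [hPbdef]; infer_instance
  have hPbc : Subgroup.centralizer (Pb : Set (X ⧸ Cfsg.pPrimeCore p X)) ≤ Pb := by
    rw [hPbdef]; exact pConstrained_centralizer_pCore_le p hX
  obtain ⟨Ab, hAbdef⟩ : ∃ Ab : Subgroup (X ⧸ Cfsg.pPrimeCore p X), Ab = A.map π := ⟨_, rfl⟩
  obtain ⟨Qb, hQbdef⟩ : ∃ Qb : Subgroup (X ⧸ Cfsg.pPrimeCore p X), Qb = Q.map π := ⟨_, rfl⟩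
  rw [← hAbdef] at hΩb
  have hAbp : IsPGroup p Ab := by rw [hAbdef]; exact IsPGroup.map hAp π
  have hQbc : (Nat.card Qb).Coprime p := by
    rw [hQbdef]
    exact Nat.Coprime.coprime_dvd_left (Subgroup.card_map_dvd Q π)
      ((Nat.Prime.coprime_iff_not_dvd hpp).mpr hQ).symm
  have hAbQb : Ab ≤ Subgroup.normalizer (Qb : Set (X ⧸ Cfsg.pPrimeCore p X)) := by
    rw [hAbdef, hQbdef]
    apply Cfsg.Agent.Lib.Lead.le_normalizer_of_conj_mem
    rintro _ ⟨a, ha, rfl⟩ _ ⟨q, hq, rfl⟩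
    refine ⟨a * q * a⁻¹, Cfsg.Agent.Lib.Lead.conj_mem_of_mem_normalizer (hAQ ha) hq, ?_⟩
    rw [map_mul, map_mul, map_inv]
  have hAbPb : Ab ≤ Subgroup.normalizer (Pb : Set (X ⧸ Cfsg.pPrimeCore p X)) := by
    rw [Subgroup.normalizer_eq_top_iff.mpr hPbn]; exact le_top
  have hQbPb : Qb ≤ Subgroup.normalizer (Pb : Set (X ⧸ Cfsg.pPrimeCore p X)) := by
    rw [Subgroup.normalizer_eq_top_iff.mpr hPbn]; exact le_top
  have hQP : ∀ g : X ⧸ Cfsg.pPrimeCore p X, g ∈ Qb → g ∈ Pb → g = 1 := by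
    intro g hgQ hgP
    obtain ⟨e, he⟩ := hPbp ⟨g, hgP⟩
    have he' : g ^ p ^ e = 1 := congrArg Subtype.val he
    have h3 : g ^ (Nat.card Qb) = 1 :=
      congrArg Subtype.val (pow_card_eq_one' (G := ↥Qb) (x := ⟨g, hgQ⟩))
    have hd1 : orderOf g ∣ p ^ e := orderOf_dvd_of_pow_eq_one he'
    have hd2 : orderOf g ∣ Nat.card Qb := orderOf_dvd_of_pow_eq_one h3
    have hcop : (p ^ e).Coprime (Nat.card Qb) := Nat.Coprime.pow_left e hQbc.symm
    exact orderOf_eq_one_iff.mp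
      (Nat.Coprime.eq_one_of_dvd (Nat.Coprime.coprime_dvd_left hd1 hcop) hd2)
  have hord : ∀ y ∈ Pb ⊓ Subgroup.centralizer (Ab : Set (X ⧸ Cfsg.pPrimeCore p X)),
      orderOf y = p → y ∈ Subgroup.centralizer (Qb : Set (X ⧸ Cfsg.pPrimeCore p X)) := by
    intro y hy hyp
    have hyA : y ∈ Ab := hΩb y hy.2 hyp
    have hyP : y ∈ Pb := hy.1
    rw [Subgroup.mem_centralizer_iff]
    intro q hq
    have h1 : q * y * q⁻¹ * y⁻¹ ∈ Pb := Pb.mul_mem (hPbn.conj_mem y hyP q) (Pb.inv_mem hyP)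
    have h2 : q * y * q⁻¹ * y⁻¹ ∈ Qb := by
      have h4 : q * y * q⁻¹ * y⁻¹ = q * (y * q⁻¹ * y⁻¹) := by group
      rw [h4]
      exact Qb.mul_mem hq
        (Cfsg.Agent.Lib.Lead.conj_mem_of_mem_normalizer (hAbQb hyA) (Qb.inv_mem hq))
    have h3 := hQP _ h2 h1
    calc q * y = q * y * q⁻¹ * y⁻¹ * (y * q) := by group
      _ = y * q := by rw [h3, one_mul]
  have hcent : Qb ≤ Subgroup.centralizer (Pb : Set (X ⧸ Cfsg.pPrimeCore p X)) :=
    pq_act_order_p hp Ab Qb hAbp hQbc hAbQb (Nat.card Pb) Pb le_rfl hPbp hAbPb hQbPb hord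
  intro q hq
  rw [← hπ1]
  have hqb : π q ∈ Qb := by rw [hQbdef]; exact Subgroup.mem_map_of_mem π hq
  exact hQP _ hqb (hPbc (hcent hqb))

end Cfsg.Agent.Lib.Helper2
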