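import Mathlib
import Cfsg.Prelude
import Cfsg.Agent.Lib.Helper2.Fit
import Cfsg.Agent.Lib.Helper3.PPrimeCore
import Cfsg.Agent.Lib.Lead.SylowAux

set_option autoImplicit false
open scoped Pointwise

namespace Cfsg.Agent.Lib.Helper2

theorem upperPSeries_one (p : ℕ) (G : Type*) [Group G] :
    (Cfsg.upperPSeries p G 1).1 =
      (Cfsg.pPrimeCore p (G ⧸ (Cfsg.upperPSeries p G 0).1)).comap (QuotientGroup.mk' _) := by
  rw [Cfsg.upperPSeries]
  simp

theorem upperPSeries_two (p : ℕ) (G : Type*) [Group G] :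
    (Cfsg.upperPSeries p G 2).1 =
      (Cfsg.pCore p (G ⧸ (Cfsg.upperPSeries p G 1).1)).comap (QuotientGroup.mk' _) := by
  rw [Cfsg.upperPSeries]
  simp

theorem upperPSeries_three (p : ℕ) (G : Type*) [Group G] :
    (Cfsg.upperPSeries p G 3).1 =
      (Cfsg.pPrimeCore p (G ⧸ (Cfsg.upperPSeries p G 2).1)).comap (QuotientGroup.mk' _) := by
  rw [Cfsg.upperPSeries]
  have h2 : Even 2 := by decide
  simp [h2]

theorem relIndex_comap_mk {G : Type*} [Group G] (U : Subgroup G) [U.Normal] (P : Subgroup (G ⧸ U)) :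
    U.relIndex (P.comap (QuotientGroup.mk' U)) = Nat.card P := by
  have h1 : (⊥ : Subgroup (G ⧸ U)).comap (QuotientGroup.mk' U) = U := by
    rw [MonoidHom.comap_bot, QuotientGroup.ker_mk']
  have h2 : (P.comap (QuotientGroup.mk' U)).map (QuotientGroup.mk' U) = P :=
    Subgroup.map_comap_eq_self_of_surjective (QuotientGroup.mk'_surjective U) P
  have h3 : ((⊥ : Subgroup (G ⧸ U)).comap (QuotientGroup.mk' U)).relIndex (P.comap (QuotientGroup.mk' U))
      = (⊥ : Subgroup (G ⧸ U)).relIndex ((P.comap (QuotientGroup.mk' U)).map (QuotientGroup.mk' U)) :=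
    Subgroup.relIndex_comap _ _ _
  rw [h2, Subgroup.relIndex_bot_left] at h3
  rw [← h3]
  exact congrArg (fun X => X.relIndex (P.comap (QuotientGroup.mk' U))) h1.symm

theorem plen_one_data {G : Type*} [Group G] [Finite G] (p : ℕ) [Fact p.Prime]
    (hpl : Cfsg.PLengthLE p 1 G) :
    ∃ K M : Subgroup G, K.Normal ∧ M.Normal ∧ K ≤ M ∧ (Nat.card K).Coprime p ∧
      (∃ k : ℕ, K.relIndex M = p ^ k) ∧ (M.index).Coprime p := by
  have hp : p.Prime := Fact.out
  refine ⟨(Cfsg.upperPSeries p G 1).1, (Cfsg.upperPSeries p G 2).1, inferInstance, inferInstance,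
    ?_, ?_, ?_, ?_⟩
  · rw [upperPSeries_two]
    intro u hu
    rw [Subgroup.mem_comap]
    have : (QuotientGroup.mk' (Cfsg.upperPSeries p G 1).1) u = 1 := (QuotientGroup.eq_one_iff u).mpr hu
    rw [this]; exact Subgroup.one_mem _
  · have h1 := relIndex_comap_mk (Cfsg.upperPSeries p G 0).1
      (Cfsg.pPrimeCore p (G ⧸ (Cfsg.upperPSeries p G 0).1))
    rw [← upperPSeries_one] at h1
    have h2 : (Cfsg.upperPSeries p G 0).1.relIndex (Cfsg.upperPSeries p G 1).1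
        = Nat.card (Cfsg.upperPSeries p G 1).1 := by
      exact Subgroup.relIndex_bot_left (Cfsg.upperPSeries p G 1).1
    rw [← h2, h1]
    exact Cfsg.Agent.Lib.Helper3.pPrimeCore_coprime hp (G ⧸ (Cfsg.upperPSeries p G 0).1)
  · have h := relIndex_comap_mk (Cfsg.upperPSeries p G 1).1
      (Cfsg.pCore p (G ⧸ (Cfsg.upperPSeries p G 1).1))
    rw [← upperPSeries_two] at h
    obtain ⟨k, hk⟩ := (pCore_isPGroup' p (G ⧸ (Cfsg.upperPSeries p G 1).1)).exists_card_eq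
    exact ⟨k, by rw [h, hk]⟩
  · have h3 : (Cfsg.upperPSeries p G 3).1 = ⊤ := hpl
    rw [upperPSeries_three] at h3
    have h4 : Cfsg.pPrimeCore p (G ⧸ (Cfsg.upperPSeries p G 2).1) = ⊤ := by
      have := Subgroup.map_comap_eq_self_of_surjective
        (QuotientGroup.mk'_surjective (Cfsg.upperPSeries p G 2).1)
        (Cfsg.pPrimeCore p (G ⧸ (Cfsg.upperPSeries p G 2).1))
      rw [h3] at this
      rw [← this]
      exact Subgroup.map_top_of_surjective _ (QuotientGroup.mk'_surjective _)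
    have h5 := Cfsg.Agent.Lib.Helper3.pPrimeCore_coprime hp (G ⧸ (Cfsg.upperPSeries p G 2).1)
    rw [h4, Subgroup.card_top] at h5
    rw [Subgroup.index_eq_card]; exact h5

theorem plen_one_sylow {G : Type*} [Group G] [Finite G] (p : ℕ) [Fact p.Prime]
    (hpl : Cfsg.PLengthLE p 1 G) (S : Sylow p G) :
    ∃ K : Subgroup G, K.Normal ∧ (Nat.card K).Coprime p ∧ (K ⊔ (S : Subgroup G)).Normal := by
  obtain ⟨K, M, hKn, hMn, hKM, hKc, ⟨k, hk⟩, hMi⟩ := plen_one_data p hpl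
  refine ⟨K, hKn, hKc, ?_⟩
  have hp : p.Prime := Fact.out
  have hSM : (S : Subgroup G) ≤ M := by
    intro s hs
    have h1 : ((QuotientGroup.mk' M) s) = 1 := by
      obtain ⟨e, he⟩ := (S.2 ⟨s, hs⟩)
      have he' : s ^ p ^ e = 1 := by simpa using congrArg Subtype.val he
      have h2 : ((QuotientGroup.mk' M) s) ^ p ^ e = 1 := by rw [← map_pow, he', map_one]
      have h3 : ((QuotientGroup.mk' M) s) ^ (Nat.card (G ⧸ M)) = 1 := pow_card_eq_one'
      have hcop : (p ^ e).Coprime (Nat.card (G ⧸ M)) := by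
        rw [← Subgroup.index_eq_card]; exact Nat.Coprime.pow_left e hMi.symm
      have hd1 : orderOf ((QuotientGroup.mk' M) s) ∣ p ^ e := orderOf_dvd_of_pow_eq_one h2
      have hd2 : orderOf ((QuotientGroup.mk' M) s) ∣ Nat.card (G ⧸ M) := orderOf_dvd_of_pow_eq_one h3
      exact orderOf_eq_one_iff.mp (Nat.Coprime.eq_one_of_dvd (Nat.Coprime.coprime_dvd_left hd1 hcop) hd2)
    exact (QuotientGroup.eq_one_iff s).mp h1
  have hle : K ⊔ (S : Subgroup G) ≤ M := sup_le hKM hSM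
  have hMle : M ≤ K ⊔ (S : Subgroup G) := by
    rw [← Subgroup.relIndex_eq_one]
    have h1 : K.relIndex (K ⊔ (S : Subgroup G)) * (K ⊔ (S : Subgroup G)).relIndex M = K.relIndex M :=
      Subgroup.relIndex_mul_relIndex K (K ⊔ (S : Subgroup G)) M le_sup_left hle
    have hd : (K ⊔ (S : Subgroup G)).relIndex M ∣ p ^ k := by
      rw [← hk, ← h1]; exact dvd_mul_left _ _
    have h2 : (S : Subgroup G).relIndex (K ⊔ (S : Subgroup G)) * (K ⊔ (S : Subgroup G)).index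
        = (S : Subgroup G).index := Subgroup.relIndex_mul_index le_sup_right
    have h3 : (K ⊔ (S : Subgroup G)).relIndex M * M.index = (K ⊔ (S : Subgroup G)).index :=
      Subgroup.relIndex_mul_index hle
    have hnd : ¬ p ∣ (K ⊔ (S : Subgroup G)).relIndex M := by
      intro hdvd
      apply S.not_dvd_index
      rw [← h2, ← h3]
      exact Dvd.dvd.mul_left (Dvd.dvd.mul_right hdvd _) _
    obtain ⟨j, hj, hjeq⟩ := (Nat.dvd_prime_pow hp).mp hd
    rcases Nat.eq_zero_or_pos j with h0 | hpos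
    · rw [hjeq, h0, pow_zero]
    · exfalso; apply hnd; rw [hjeq]; exact dvd_pow_self p (by omega)
  have : K ⊔ (S : Subgroup G) = M := le_antisymm hle hMle
  rw [this]; exact hMn

theorem plen_one_main {G : Type*} [Group G] [Finite G] (p : ℕ) [Fact p.Prime]
    (hpl : Cfsg.PLengthLE p 1 G) (S : Sylow p G) :
    ((S : Subgroup G) ≤ commutator G → (S : Subgroup G) ≤ ⁅Subgroup.normalizer ((S : Subgroup G) : Set G), Subgroup.normalizer ((S : Subgroup G) : Set G)⁆) ∧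
      (∀ (Y : Set G) (x : G), Y ⊆ (S : Subgroup G) → (fun y => x * y * x⁻¹) '' Y ⊆ (S : Subgroup G) →
        ∃ g ∈ Subgroup.normalizer ((S : Subgroup G) : Set G), ∃ c ∈ Subgroup.centralizer Y, g * c = x) ∧
      ∀ Q : Subgroup G, IsPGroup p Q → ∃ x ∈ Subgroup.centralizer ((Q ⊓ (S : Subgroup G) : Subgroup G) : Set G), Q.map (MulAut.conj x).toMonoidHom ≤ (S : Subgroup G) := by
  have hp : p.Prime := Fact.out
  obtain ⟨K, hKn, hKc, hMn⟩ := plen_one_sylow p hpl S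
  have hKS : ∀ g : G, g ∈ K → g ∈ (S : Subgroup G) → g = 1 := by
    intro g hgK hgS
    obtain ⟨e, he⟩ := (S.2 ⟨g, hgS⟩)
    have he' : g ^ p ^ e = 1 := by simpa using congrArg Subtype.val he
    have h3 : g ^ (Nat.card K) = 1 := by
      have h := congrArg Subtype.val (pow_card_eq_one' (G := K) (x := ⟨g, hgK⟩))
      exact h
    have hd1 : orderOf g ∣ p ^ e := orderOf_dvd_of_pow_eq_one he'
    have hd2 : orderOf g ∣ Nat.card K := orderOf_dvd_of_pow_eq_one h3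
    have hcop : (p ^ e).Coprime (Nat.card K) := Nat.Coprime.pow_left e hKc.symm
    exact orderOf_eq_one_iff.mp (Nat.Coprime.eq_one_of_dvd (Nat.Coprime.coprime_dvd_left hd1 hcop) hd2)
  obtain ⟨Nn, hNdef⟩ : ∃ Nn : Subgroup G, Nn = Subgroup.normalizer ((S : Subgroup G) : Set G) := ⟨_, rfl⟩
  rw [← hNdef]
  have hSN : (S : Subgroup G) ≤ Nn := by rw [hNdef]; exact Subgroup.le_normalizer
  have hNmem : ∀ n : G, n ∈ Nn → ∀ h : G, (h ∈ (S : Subgroup G) ↔ n * h * n⁻¹ ∈ (S : Subgroup G)) := by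
    intro n hn h
    rw [hNdef] at hn
    exact (Subgroup.mem_normalizer_iff.mp hn) h
  have hfr : ∀ x : G, ∃ n ∈ Nn, ∃ k ∈ K, x = n * k := by
    intro x
    have hMn' := hMn
    have hSle : (S : Subgroup G) ≤ K ⊔ (S : Subgroup G) := le_sup_right
    have h1 : Subgroup.normalizer ((S : Subgroup G) : Set G) ⊔ (K ⊔ (S : Subgroup G)) = ⊤ :=
      Sylow.normalizer_sup_eq_top' S hSle
    rw [← hNdef] at h1
    have h3 : Nn ⊔ (K ⊔ (S : Subgroup G)) = Nn ⊔ K := by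
      apply le_antisymm
      · exact sup_le le_sup_left (sup_le le_sup_right (le_trans hSN le_sup_left))
      · exact sup_le le_sup_left (le_trans le_sup_left le_sup_right)
    have hx : x ∈ Nn ⊔ K := by rw [← h3, h1]; exact Subgroup.mem_top x
    obtain ⟨n, hn, k, hk, hnk⟩ := Subgroup.mem_sup_of_normal_right.mp hx
    exact ⟨n, hn, k, hk, hnk.symm⟩
  have hcent : ∀ (k : G), k ∈ K → ∀ y : G, y ∈ (S : Subgroup G) → k * y * k⁻¹ ∈ (S : Subgroup G) →
      y * k = k * y := by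
    intro k hk y hy hkyk
    have h1 : k * y * k⁻¹ * y⁻¹ ∈ (S : Subgroup G) := Subgroup.mul_mem _ hkyk (Subgroup.inv_mem _ hy)
    have h2 : k * y * k⁻¹ * y⁻¹ ∈ K := by
      have : k * y * k⁻¹ * y⁻¹ = k * (y * k⁻¹ * y⁻¹) := by group
      rw [this]
      exact Subgroup.mul_mem _ hk (hKn.conj_mem _ (Subgroup.inv_mem _ hk) y)
    have h3 := hKS _ h2 h1
    symm
    calc k * y = k * y * k⁻¹ * y⁻¹ * (y * k) := by group
      _ = y * k := by rw [h3, one_mul]
  refine ⟨?_, ?_, ?_⟩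
  · intro hSG
    have hcomm : commutator G ≤ K ⊔ ⁅Nn, Nn⁆ := by
      rw [commutator_def, Subgroup.commutator_le]
      intro x _ y _
      obtain ⟨n₁, hn₁, k₁, hk₁, hx⟩ := hfr x
      obtain ⟨n₂, hn₂, k₂, hk₂, hy⟩ := hfr y
      obtain ⟨π, hπdef⟩ : ∃ π : G →* G ⧸ K, π = QuotientGroup.mk' K := ⟨_, rfl⟩
      have hπ1 : ∀ g, π g = 1 ↔ g ∈ K := by intro g; rw [hπdef]; exact QuotientGroup.eq_one_iff g
      have hπx : π x = π n₁ := by rw [hx, map_mul, (hπ1 k₁).mpr hk₁, mul_one]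
      have hπy : π y = π n₂ := by rw [hy, map_mul, (hπ1 k₂).mpr hk₂, mul_one]
      have h1 : (x * y * x⁻¹ * y⁻¹) * (n₁ * n₂ * n₁⁻¹ * n₂⁻¹)⁻¹ ∈ K := by
        rw [← hπ1]
        simp only [map_mul, map_inv, hπx, hπy]
        group
      have h2 : n₁ * n₂ * n₁⁻¹ * n₂⁻¹ ∈ ⁅Nn, Nn⁆ := Subgroup.commutator_mem_commutator hn₁ hn₂
      have h3 : x * y * x⁻¹ * y⁻¹
          = ((x * y * x⁻¹ * y⁻¹) * (n₁ * n₂ * n₁⁻¹ * n₂⁻¹)⁻¹) * (n₁ * n₂ * n₁⁻¹ * n₂⁻¹) := by group
      show x * y * x⁻¹ * y⁻¹ ∈ K ⊔ ⁅Nn, Nn⁆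
      rw [h3]
      exact Subgroup.mul_mem _ (Subgroup.mem_sup_left h1) (Subgroup.mem_sup_right h2)
    have hN'le : ⁅Nn, Nn⁆ ≤ Nn := by
      rw [Subgroup.commutator_le]
      intro a ha b hb
      show a * b * a⁻¹ * b⁻¹ ∈ Nn
      exact Nn.mul_mem (Nn.mul_mem (Nn.mul_mem ha hb) (Nn.inv_mem ha)) (Nn.inv_mem hb)
    intro s hs
    obtain ⟨k, hk, c, hc, hkc⟩ := Subgroup.mem_sup_of_normal_left.mp (hcomm (hSG hs))
    have hsN : s ∈ Nn := hSN hs
    have hcN : c ∈ Nn := hN'le hc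
    have hkN : k ∈ Nn := by
      have : k = s * c⁻¹ := by rw [← hkc]; group
      rw [this]; exact Nn.mul_mem hsN (Nn.inv_mem hcN)
    have hmap : (commutator ↥Nn).map Nn.subtype = ⁅Nn, Nn⁆ := Subgroup.map_subtype_commutator Nn
    have hc' : (⟨c, hcN⟩ : ↥Nn) ∈ commutator ↥Nn := by
      have hc2 : c ∈ (commutator ↥Nn).map Nn.subtype := by rw [hmap]; exact hc
      obtain ⟨c', hc'1, hc'2⟩ := hc2
      have : c' = ⟨c, hcN⟩ := Subtype.ext hc'2
      rw [← this]; exact hc'1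
    obtain ⟨π, hπdef⟩ : ∃ π : ↥Nn →* ↥Nn ⧸ commutator ↥Nn, π = QuotientGroup.mk' (commutator ↥Nn) :=
      ⟨_, rfl⟩
    have hπ1 : ∀ g, π g = 1 ↔ g ∈ commutator ↥Nn := by
      intro g; rw [hπdef]; exact QuotientGroup.eq_one_iff g
    have hπs : π ⟨s, hsN⟩ = π ⟨k, hkN⟩ := by
      have : (⟨s, hsN⟩ : ↥Nn) = ⟨k, hkN⟩ * ⟨c, hcN⟩ := Subtype.ext hkc.symm
      rw [this, map_mul, (hπ1 _).mpr hc', mul_one]
    obtain ⟨e, he⟩ := (S.2 ⟨s, hs⟩)
    have he' : s ^ p ^ e = 1 := by simpa using congrArg Subtype.val he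
    have h3 : k ^ (Nat.card K) = 1 := by
      have h := congrArg Subtype.val (pow_card_eq_one' (G := K) (x := ⟨k, hk⟩))
      exact h
    have hp1 : (π ⟨s, hsN⟩) ^ p ^ e = 1 := by
      rw [← map_pow]
      have : (⟨s, hsN⟩ : ↥Nn) ^ p ^ e = 1 := Subtype.ext (by simpa using he')
      rw [this, map_one]
    have hp2 : (π ⟨s, hsN⟩) ^ (Nat.card K) = 1 := by
      rw [hπs, ← map_pow]
      have : (⟨k, hkN⟩ : ↥Nn) ^ (Nat.card K) = 1 := Subtype.ext (by simpa using h3)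
      rw [this, map_one]
    have hcop : (p ^ e).Coprime (Nat.card K) := Nat.Coprime.pow_left e hKc.symm
    have hone : π ⟨s, hsN⟩ = 1 := by
      have hd1 := orderOf_dvd_of_pow_eq_one hp1
      have hd2 := orderOf_dvd_of_pow_eq_one hp2
      exact orderOf_eq_one_iff.mp (Nat.Coprime.eq_one_of_dvd (Nat.Coprime.coprime_dvd_left hd1 hcop) hd2)
    have hsc : (⟨s, hsN⟩ : ↥Nn) ∈ commutator ↥Nn := (hπ1 _).mp hone
    rw [← hmap]
    exact ⟨⟨s, hsN⟩, hsc, rfl⟩
  · intro Y x hY hxY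
    obtain ⟨n, hn, k, hk, hx⟩ := hfr x
    refine ⟨n, hn, k, ?_, hx.symm⟩
    rw [Subgroup.mem_centralizer_iff]
    intro y hy
    have hyS : y ∈ (S : Subgroup G) := hY hy
    have h1 : x * y * x⁻¹ ∈ (S : Subgroup G) := hxY ⟨y, hy, rfl⟩
    have h2 : k * y * k⁻¹ ∈ (S : Subgroup G) := by
      have hn' := hNmem n hn (k * y * k⁻¹)
      have : n * (k * y * k⁻¹) * n⁻¹ = x * y * x⁻¹ := by rw [hx]; group
      exact hn'.mpr (by rw [this]; exact h1)
    exact hcent k hk y hyS h2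
  · intro Q hQ
    obtain ⟨P, hQP⟩ := hQ.exists_le_sylow
    obtain ⟨g, hg⟩ := MulAction.exists_smul_eq G S P
    obtain ⟨n, hn, k, hk, hgk⟩ := hfr g⁻¹
    have hconj : ∀ y : G, y ∈ Q → k * y * k⁻¹ ∈ (S : Subgroup G) := by
      intro y hy
      have h1 : y ∈ (P : Subgroup G) := hQP hy
      rw [← hg] at h1
      have h2 : y ∈ MulAut.conj g • (S : Subgroup G) := h1
      rw [Cfsg.Agent.Lib.Lead.mem_conj_smul] at h2
      have hn' := hNmem n hn (k * y * k⁻¹)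
      have : n * (k * y * k⁻¹) * n⁻¹ = g⁻¹ * y * g := by
        have hg' : g = (n * k)⁻¹ := by rw [← hgk, inv_inv]
        rw [hg']; group
      exact hn'.mpr (by rw [this]; exact h2)
    refine ⟨k, ?_, ?_⟩
    · rw [Subgroup.mem_centralizer_iff]
      intro y hy
      have hy' : y ∈ Q ⊓ (S : Subgroup G) := hy
      exact hcent k hk y hy'.2 (hconj y hy'.1)
    · rintro _ ⟨y, hy, rfl⟩
      change k * y * k⁻¹ ∈ (S : Subgroup G)
      exact hconj y hy

end Cfsg.Agent.Lib.Helper2
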