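import Mathlib
import Cfsg.Prelude

set_option autoImplicit false

namespace Cfsg.Agent.Lib.Helper2

universe u

/-- If `N` is a normal `p`-subgroup or `p'`-subgroup and `G ⧸ N` is `p`-solvable, so is `G`. -/
theorem isPSolvable_of_quotient_normal {G : Type u} [Group G] (p : ℕ) (N : Subgroup G) [N.Normal]
    (hN : (∃ m : ℕ, Nat.card N = p ^ m) ∨ (Nat.card N).Coprime p)
    (hq : Cfsg.IsPSolvable p (G ⧸ N)) : Cfsg.IsPSolvable p G := by
  obtain ⟨n, K, h0, hlast, hmono, hnorm, hfac⟩ := hq
  have hs := QuotientGroup.mk'_surjective N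
  obtain ⟨H, hH0, hHs⟩ : ∃ H : Fin (n + 1 + 1) → Subgroup G, H 0 = ⊥ ∧
      ∀ i : Fin (n + 1), H i.succ = (K i).comap (QuotientGroup.mk' N) :=
    ⟨Fin.cons ⊥ (fun i => (K i).comap (QuotientGroup.mk' N)), Fin.cons_zero _ _,
      fun i => Fin.cons_succ _ _ i⟩
  refine ⟨n + 1, H, hH0, ?_, ?_, ?_, ?_⟩
  · rw [← Fin.succ_last, hHs, hlast, Subgroup.comap_top]
  · intro i j hij
    induction i using Fin.cases with
    | zero => rw [hH0]; exact bot_le
    | succ i' =>
      induction j using Fin.cases with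
      | zero => exact absurd (Fin.le_zero_iff.mp hij) (Fin.succ_ne_zero i')
      | succ j' =>
        rw [hHs, hHs]
        exact Subgroup.comap_mono (hmono (Fin.succ_le_succ_iff.mp hij))
  · intro i
    induction i using Fin.cases with
    | zero => rw [hH0]; infer_instance
    | succ i' => rw [hHs]; exact (hnorm i').comap _
  · intro i
    induction i using Fin.cases with
    | zero =>
      have e1 : H (Fin.castSucc (0 : Fin (n + 1))) = ⊥ := by
        rw [Fin.castSucc_zero]; exact hH0
      have e2 : H (Fin.succ (0 : Fin (n + 1))) = N := by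
        rw [hHs, h0, MonoidHom.comap_bot, QuotientGroup.ker_mk']
      rw [e1, e2, Subgroup.relIndex_bot_left]
      exact hN
    | succ j =>
      have e1 : H (Fin.castSucc j.succ) = (K j.castSucc).comap (QuotientGroup.mk' N) := by
        rw [← Fin.succ_castSucc, hHs]
      have e2 : H (Fin.succ j.succ) = (K j.succ).comap (QuotientGroup.mk' N) := hHs _
      rw [e1, e2, Subgroup.relIndex_comap, Subgroup.map_comap_eq_self_of_surjective hs]
      exact hfac j

/-- A nontrivial finite solvable group has a nontrivial normal subgroup which is a `p`-group or a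
`p'`-group. -/
theorem exists_normal_p_or_pprime {G : Type u} [Group G] [Finite G] (p : ℕ) [hp : Fact p.Prime]
    (hs : Group.IsSolvable G) (hnt : Nontrivial G) :
    ∃ N : Subgroup G, N.Normal ∧ N ≠ ⊥ ∧
      ((∃ m : ℕ, Nat.card N = p ^ m) ∨ (Nat.card N).Coprime p) := by
  classical
  have hex : ∃ n : ℕ, derivedSeries G n = ⊥ := hs.solvable
  obtain ⟨k, hk, hmin⟩ : ∃ k, derivedSeries G k = ⊥ ∧ ∀ j < k, derivedSeries G j ≠ ⊥ :=
    ⟨Nat.find hex, Nat.find_spec hex, fun j hj => Nat.find_min hex hj⟩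
  have hk0 : k ≠ 0 := by
    intro h0
    rw [h0, derivedSeries_zero] at hk
    exact top_ne_bot hk
  obtain ⟨j, hj⟩ := Nat.exists_eq_succ_of_ne_zero hk0
  obtain ⟨A, hAdef⟩ : ∃ A : Subgroup G, A = derivedSeries G j := ⟨_, rfl⟩
  have hAn : A.Normal := by rw [hAdef]; exact derivedSeries_normal G j
  have hA1 : A ≠ ⊥ := by rw [hAdef]; exact hmin j (by omega)
  have hA2 : ⁅A, A⁆ = ⊥ := by
    rw [hAdef, ← derivedSeries_succ, ← Nat.succ_eq_add_one, ← hj]; exact hk
  have hcomm : ∀ a ∈ A, ∀ b ∈ A, a * b = b * a := by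
    intro a ha b hb
    have hle := (Subgroup.commutator_eq_bot_iff_le_centralizer).mp hA2
    exact ((Subgroup.mem_centralizer_iff.mp (hle hb)) a ha)
  have hcard1 : Nat.card A ≠ 1 := fun h => hA1 (Subgroup.card_eq_one.mp h)
  obtain ⟨q, hq, hqA⟩ := Nat.exists_prime_and_dvd hcard1
  haveI : Fact q.Prime := ⟨hq⟩
  obtain ⟨N, hNdef⟩ : ∃ N : Subgroup G, ∀ a, a ∈ N ↔ (a ∈ A ∧ a ^ q = 1) :=
    ⟨{ carrier := {a | a ∈ A ∧ a ^ q = 1}
       one_mem' := ⟨A.one_mem, one_pow q⟩
       mul_mem' := by
         rintro a b ⟨ha, ha1⟩ ⟨hb, hb1⟩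
         refine ⟨A.mul_mem ha hb, ?_⟩
         have hc : Commute a b := hcomm a ha b hb
         rw [hc.mul_pow, ha1, hb1, one_mul]
       inv_mem' := by
         rintro a ⟨ha, ha1⟩
         exact ⟨A.inv_mem ha, by rw [inv_pow, ha1, inv_one]⟩ }, fun a => Iff.rfl⟩
  have hNn : N.Normal := by
    constructor
    intro a ha g
    rw [hNdef] at ha ⊢
    refine ⟨hAn.conj_mem a ha.1 g, ?_⟩
    rw [conj_pow, ha.2, mul_one, mul_inv_cancel]
  have hNb : N ≠ ⊥ := by
    obtain ⟨x, hx⟩ := exists_prime_orderOf_dvd_card' (G := ↥A) q hqA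
    intro hbot
    have hxN : (x : G) ∈ N := by
      rw [hNdef]
      refine ⟨x.2, ?_⟩
      have h1 : x ^ q = 1 := by rw [← hx]; exact pow_orderOf_eq_one x
      have h2 := congrArg Subtype.val h1
      simpa using h2
    rw [hbot, Subgroup.mem_bot] at hxN
    have hx1 : x = 1 := Subtype.ext hxN
    rw [hx1, orderOf_one] at hx
    exact hq.one_lt.ne hx
  have hNq : IsPGroup q ↥N := by
    intro g
    refine ⟨1, ?_⟩
    apply Subtype.ext
    have h1 := ((hNdef (g : G)).mp g.2).2
    simpa using h1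
  obtain ⟨m, hm⟩ := IsPGroup.iff_card.mp hNq
  refine ⟨N, hNn, hNb, ?_⟩
  by_cases hqp : q = p
  · left; exact ⟨m, by rw [hm, hqp]⟩
  · right
    rw [hm]
    exact Nat.Coprime.pow_left m ((Nat.coprime_primes hq hp.out).mpr hqp)

/-- A finite solvable group is `p`-solvable. -/
theorem isPSolvable_of_isSolvable_aux (p : ℕ) [Fact p.Prime] :
    ∀ (n : ℕ) (G : Type u) [Group G] [Finite G], Nat.card G = n → Group.IsSolvable G →
      Cfsg.IsPSolvable p G := by
  intro n
  induction n using Nat.strong_induction_on with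
  | _ n ih =>
    intro G _ _ hn hs
    by_cases hnt : Nontrivial G
    · obtain ⟨N, hNn, hNb, hN⟩ := exists_normal_p_or_pprime p hs hnt
      haveI := hNn
      have hlt : Nat.card (G ⧸ N) < n := by
        rw [← hn]
        have h1 := Subgroup.card_eq_card_quotient_mul_card_subgroup N
        have h2 : 1 < Nat.card N := by
          rcases Nat.lt_or_ge 1 (Nat.card N) with h | h
          · exact h
          · exfalso
            apply hNb
            apply Subgroup.card_eq_one.mp
            have := Nat.card_pos (α := N)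
            omega
        have h3 : 0 < Nat.card (G ⧸ N) := Nat.card_pos
        rw [h1]
        nlinarith
      haveI := hs
      exact isPSolvable_of_quotient_normal p N hN (ih _ hlt (G ⧸ N) rfl inferInstance)
    · rw [not_nontrivial_iff_subsingleton] at hnt
      refine ⟨0, fun _ => ⊥, rfl, ?_, ?_, ?_, ?_⟩
      · exact Subsingleton.elim _ _
      · intro i j _; exact le_rfl
      · intro i; infer_instance
      · intro i; exact i.elim0

/-- A finite solvable group is `p`-solvable. -/
theorem isPSolvable_of_isSolvable {G : Type u} [Group G] [Finite G] (p : ℕ) [Fact p.Prime]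
    (hs : Group.IsSolvable G) : Cfsg.IsPSolvable p G :=
  isPSolvable_of_isSolvable_aux p _ G rfl hs

end Cfsg.Agent.Lib.Helper2
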